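import Cfsg.Agent.S0713

/-!
# 2-transitive groups: averaging, small supports (helper579)

* `sum_pairs` : double counting for pairs;
* `alt_of_small` : a non-trivial element moving at most 3 points forces the alternating group;
* `min_deg` : otherwise every non-trivial element `x` satisfies `n - 1 ≤ (|supp x| - 1) ^ 2`;
* `bochert` : the minimal degree `m` satisfies `(m - 3) (n - m) ≤ 3 (m - 1) ^ 2`;
* `three_two` : no elements of order 3 with two cycles if `n ≥ 22`.
-/

set_option autoImplicit false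

namespace Cfsg.Agent.H579.Pr

open MulAction Finset

universe u v

variable {G : Type u} {Ω : Type v} [Group G] [MulAction G Ω] [Fintype Ω] [DecidableEq Ω]

section avg

variable [Fintype G]

theorem card_two (h2 : IsMultiplyPretransitive G Ω 2) {a b c d : Ω} (hab : a ≠ b) (hcd : c ≠ d) :
    #{h : G | h • a = c ∧ h • b = d} * (Fintype.card Ω * (Fintype.card Ω - 1)) = Fintype.card G := by
  have h0 : Fintype.card G = ∑ z ∈ (univ : Finset Ω).offDiag, #{h : G | (h • a, h • b) = z} := by
    have h1 := Finset.card_eq_sum_card_fiberwise (s := (univ : Finset G)) (t := (univ : Finset Ω).offDiag)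
      (f := fun h => (h • a, h • b)) (fun h _ => by simp [mem_offDiag, hab])
    rw [← Finset.card_univ, h1]
  have key : ∀ z ∈ (univ : Finset Ω).offDiag,
      #{h : G | (h • a, h • b) = z} = #{h : G | h • a = c ∧ h • b = d} := by
    rintro ⟨u, w⟩ hz
    rw [mem_offDiag] at hz
    obtain ⟨t, ht1, ht2⟩ := is_two_pretransitive_iff.1 h2 hcd hz.2.2
    refine Finset.card_bij' (fun h _ => t⁻¹ * h) (fun h _ => t * h) ?_ ?_ ?_ ?_
    · intro h hh
      simp only [mem_filter, mem_univ, true_and, Prod.mk.injEq] at hh ⊢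
      rw [mul_smul, mul_smul, inv_smul_eq_iff, inv_smul_eq_iff, hh.1, hh.2]
      exact ⟨ht1.symm, ht2.symm⟩
    · intro h hh
      simp only [mem_filter, mem_univ, true_and, Prod.mk.injEq] at hh ⊢
      rw [mul_smul, mul_smul, hh.1, hh.2]
      exact ⟨ht1, ht2⟩
    · intro h _
      simp
    · intro h _
      simp
  rw [h0, Finset.sum_congr rfl key, sum_const, offDiag_card, Finset.card_univ, smul_eq_mul, mul_comm,
    Nat.mul_sub_one]

theorem sum_pairs (h2 : IsMultiplyPretransitive G Ω 2) (P Q : Finset (Ω × Ω)) (hP : ∀ z ∈ P, z.1 ≠ z.2)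
    (hQ : ∀ z ∈ Q, z.1 ≠ z.2) :
    (∑ h : G, #{z ∈ P | (h • z.1, h • z.2) ∈ Q}) * (Fintype.card Ω * (Fintype.card Ω - 1)) =
      Fintype.card G * (#P * #Q) := by
  have h1 : ∑ h : G, #{z ∈ P | (h • z.1, h • z.2) ∈ Q} =
      ∑ z ∈ P, ∑ w ∈ Q, #{h : G | h • z.1 = w.1 ∧ h • z.2 = w.2} := by
    have e1 : ∀ h : G, #{z ∈ P | (h • z.1, h • z.2) ∈ Q} =
        ∑ z ∈ P, ∑ w ∈ Q, (if h • z.1 = w.1 ∧ h • z.2 = w.2 then 1 else 0) := by
      intro h
      rw [Finset.card_filter]
      refine Finset.sum_congr rfl fun z _ => ?_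
      split_ifs with hz
      · rw [Finset.sum_eq_single_of_mem _ hz]
        · simp
        · intro w _ hw
          rw [if_neg]
          rintro ⟨h3, h4⟩
          exact hw (Prod.ext h3.symm h4.symm)
      · symm
        apply Finset.sum_eq_zero
        intro w hw
        rw [if_neg]
        rintro ⟨h3, h4⟩
        apply hz
        rw [h3, h4]
        exact hw
    simp_rw [e1]
    rw [Finset.sum_comm]
    refine Finset.sum_congr rfl fun z _ => ?_
    rw [Finset.sum_comm]
    refine Finset.sum_congr rfl fun w _ => ?_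
    rw [Finset.card_filter]
  rw [h1, Finset.sum_mul]
  have e2 : ∀ z ∈ P, (∑ w ∈ Q, #{h : G | h • z.1 = w.1 ∧ h • z.2 = w.2}) *
      (Fintype.card Ω * (Fintype.card Ω - 1)) = Fintype.card G * #Q := by
    intro z hz
    rw [Finset.sum_mul]
    have e3 : ∀ w ∈ Q, #{h : G | h • z.1 = w.1 ∧ h • z.2 = w.2} * (Fintype.card Ω * (Fintype.card Ω - 1)) =
        Fintype.card G := fun w hw => card_two h2 (hP z hz) (hQ w hw)
    rw [Finset.sum_congr rfl e3, sum_const, smul_eq_mul, mul_comm]
  rw [Finset.sum_congr rfl e2, sum_const, smul_eq_mul]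
  ring

theorem sum_points [IsPretransitive G Ω] (P Q : Finset Ω) :
    (∑ h : G, #{z ∈ P | h • z ∈ Q}) * Fintype.card Ω = Fintype.card G * (#P * #Q) := by
  have h0 : ∀ a c : Ω, #{h : G | h • a = c} * Fintype.card Ω = Fintype.card G := by
    intro a c
    have h1 := Finset.card_eq_sum_card_fiberwise (s := (univ : Finset G)) (t := (univ : Finset Ω))
      (f := fun h => h • a) (fun h _ => by simp)
    have key : ∀ z ∈ (univ : Finset Ω), #{h : G | h • a = z} = #{h : G | h • a = c} := by
      intro z _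
      obtain ⟨t, ht⟩ := exists_smul_eq G c z
      refine Finset.card_bij' (fun h _ => t⁻¹ * h) (fun h _ => t * h) ?_ ?_ ?_ ?_
      · intro h hh
        simp only [mem_filter, mem_univ, true_and] at hh ⊢
        rw [mul_smul, inv_smul_eq_iff, hh, ht]
      · intro h hh
        simp only [mem_filter, mem_univ, true_and] at hh ⊢
        rw [mul_smul, hh, ht]
      · intro h _
        simp
      · intro h _
        simp
    rw [Finset.sum_congr rfl key, sum_const, Finset.card_univ, Finset.card_univ, smul_eq_mul] at h1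
    rw [h1, mul_comm]
  have h1 : ∑ h : G, #{z ∈ P | h • z ∈ Q} = ∑ z ∈ P, ∑ w ∈ Q, #{h : G | h • z = w} := by
    have e1 : ∀ h : G, #{z ∈ P | h • z ∈ Q} = ∑ z ∈ P, ∑ w ∈ Q, (if h • z = w then 1 else 0) := by
      intro h
      rw [Finset.card_filter]
      refine Finset.sum_congr rfl fun z _ => ?_
      rw [Finset.sum_ite_eq]
    simp_rw [e1]
    rw [Finset.sum_comm]
    refine Finset.sum_congr rfl fun z _ => ?_
    rw [Finset.sum_comm]
    refine Finset.sum_congr rfl fun w _ => ?_
    rw [Finset.card_filter]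
  rw [h1, Finset.sum_mul]
  have e2 : ∀ z ∈ P, (∑ w ∈ Q, #{h : G | h • z = w}) * Fintype.card Ω = Fintype.card G * #Q := by
    intro z _
    rw [Finset.sum_mul]
    rw [Finset.sum_congr rfl fun w _ => h0 z w, sum_const, smul_eq_mul, mul_comm]
  rw [Finset.sum_congr rfl e2, sum_const, smul_eq_mul]
  ring

end avg

end Cfsg.Agent.H579.Pr
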