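import Cfsg.Agent.H579.Pr.Small

/-!
# 2-transitive groups: fixed points and centralizers (helper579)

* `cent_eq` : `f (f - 1) |G_{ab}| = |C(x)| |x^G ∩ G_{ab}|`;
* `cent_le` : `f (f - 1) ≤ |C(x)|`;
* `card_orderOf_le` : the number of the elements of order `p` is at most `|Syl_p| (|P| - 1)`;
* `card_cent_le` : `|C(x)| ≤ 18 |D|` for an element `x` of order 3 with two cycles, `D` the pointwise stabiliser of the
  support.
-/

set_option autoImplicit false

namespace Cfsg.Agent.H579.Pr

open MulAction Finset Subgroup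

universe u v

variable {G : Type u} {Ω : Type v} [Group G] [MulAction G Ω] [Fintype Ω] [DecidableEq Ω]

section

variable [Finite G]

/-- `f (f - 1) |G_{ab}| = |C(x)| |x^G ∩ G_{ab}|` -/
theorem cent_eq (h2 : IsMultiplyPretransitive G Ω 2) {a b : Ω} (hab : a ≠ b) (x : G) :
    (#(mv Ω x)ᶜ * (#(mv Ω x)ᶜ - 1)) * Nat.card ↥(stabilizer G a ⊓ stabilizer G b) =
      Nat.card ↥(centralizer ({x} : Set G)) * Nat.card {y : G // IsConj x y ∧ y • a = a ∧ y • b = b} := by
  classical
  have := Fintype.ofFinite G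
  set F := (mv Ω x)ᶜ with hF
  have hmemF : ∀ c, c ∈ F ↔ x • c = c := fun c => by rw [hF, mem_compl, not_mem_mv]
  set X : Finset G := univ.filter fun h => h • a ∈ F ∧ h • b ∈ F with hX
  have h1 : #X = (#F * (#F - 1)) * Nat.card ↥(stabilizer G a ⊓ stabilizer G b) := by
    have e1 := Finset.card_eq_sum_card_fiberwise (s := X) (t := F.offDiag) (f := fun h => (h • a, h • b))
      (fun h hh => by
        rw [mem_coe, hX, mem_filter] at hh
        rw [mem_coe, mem_offDiag]
        exact ⟨hh.2.1, hh.2.2, fun hc => hab (smul_left_cancel h hc)⟩)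
    have e2 : ∀ z ∈ F.offDiag, #{h ∈ X | (h • a, h • b) = z} = Nat.card ↥(stabilizer G a ⊓ stabilizer G b) := by
      rintro ⟨c, d⟩ hz
      rw [mem_offDiag] at hz
      obtain ⟨t, ht1, ht2⟩ := is_two_pretransitive_iff.1 h2 hab hz.2.2
      have e0 : Nat.card ↥(stabilizer G a ⊓ stabilizer G b) =
          #(((stabilizer G a ⊓ stabilizer G b : Subgroup G) : Set G).toFinset) := Nat.card_eq_card_toFinset _
      rw [e0]
      symm
      refine Finset.card_bij' (fun h _ => t * h) (fun h _ => t⁻¹ * h) ?_ ?_ ?_ ?_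
      · intro h hh
        rw [Set.mem_toFinset] at hh
        have h3 : h • a = a := hh.1
        have h4 : h • b = b := hh.2
        rw [mem_filter, hX, mem_filter, mul_smul, mul_smul, h3, h4, ht1, ht2]
        exact ⟨⟨mem_univ _, hz.1, hz.2.1⟩, rfl⟩
      · intro h hh
        rw [mem_filter] at hh
        have h3 := Prod.mk.injEq _ _ _ _ ▸ hh.2
        rw [Set.mem_toFinset]
        refine ⟨?_, ?_⟩
        · show (t⁻¹ * h) • a = a
          rw [mul_smul, inv_smul_eq_iff, ht1]
          exact h3.1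
        · show (t⁻¹ * h) • b = b
          rw [mul_smul, inv_smul_eq_iff, ht2]
          exact h3.2
      · intro h _
        simp
      · intro h _
        simp
    rw [e1, Finset.sum_congr rfl e2, sum_const, offDiag_card, smul_eq_mul, Nat.mul_sub_one]
  set Y : Finset G := univ.filter fun y => IsConj x y ∧ y • a = a ∧ y • b = b with hY
  have h3 : #X = Nat.card ↥(centralizer ({x} : Set G)) * #Y := by
    have hmem : ∀ (h : G) (c : Ω), (h⁻¹ * x * h) • c = c ↔ h • c ∈ F := by
      intro h c
      rw [hmemF, mul_smul, mul_smul, inv_smul_eq_iff]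
    have e1 := Finset.card_eq_sum_card_fiberwise (s := X) (t := Y) (f := fun h => h⁻¹ * x * h)
      (fun h hh => by
        rw [mem_coe, hX, mem_filter] at hh
        rw [mem_coe, hY, mem_filter]
        exact ⟨mem_univ _, isConj_iff.2 ⟨h⁻¹, by rw [inv_inv]⟩, (hmem h a).2 hh.2.1, (hmem h b).2 hh.2.2⟩)
    have e2 : ∀ y ∈ Y, #{h ∈ X | h⁻¹ * x * h = y} = Nat.card ↥(centralizer ({x} : Set G)) := by
      intro y hy
      rw [hY, mem_filter] at hy
      obtain ⟨-, hyc, hya, hyb⟩ := hy
      obtain ⟨c, rfl⟩ := isConj_iff.1 hyc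
      have e0 : Nat.card ↥(centralizer ({x} : Set G)) =
          #(((centralizer ({x} : Set G) : Subgroup G) : Set G).toFinset) := Nat.card_eq_card_toFinset _
      rw [e0]
      refine Finset.card_bij' (fun h _ => h * c) (fun h _ => h * c⁻¹) ?_ ?_ ?_ ?_
      · intro h hh
        rw [mem_filter] at hh
        rw [Set.mem_toFinset, SetLike.mem_coe, mem_centralizer_singleton_iff]
        have h4 := hh.2
        calc h * c * x = h * (c * x * c⁻¹) * c := by group
          _ = h * (h⁻¹ * x * h) * c := by rw [h4]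
          _ = x * (h * c) := by group
      · intro h hh
        rw [Set.mem_toFinset, SetLike.mem_coe, mem_centralizer_singleton_iff] at hh
        have h4 : (h * c⁻¹)⁻¹ * x * (h * c⁻¹) = c * x * c⁻¹ := by
          calc (h * c⁻¹)⁻¹ * x * (h * c⁻¹) = c * h⁻¹ * (x * h) * c⁻¹ := by group
            _ = c * h⁻¹ * (h * x) * c⁻¹ := by rw [hh]
            _ = _ := by group
        rw [mem_filter, hX, mem_filter]
        refine ⟨⟨mem_univ _, ?_, ?_⟩, h4⟩
        · rw [← hmem, h4]
          exact hya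
        · rw [← hmem, h4]
          exact hyb
      · intro h _
        simp
      · intro h _
        simp
    rw [e1, Finset.sum_congr rfl e2, sum_const, smul_eq_mul, mul_comm]
  rw [← h1, h3]
  congr 1
  rw [Nat.card_eq_fintype_card, Fintype.card_subtype]

/-- the conjugates in a two point stabiliser -/
theorem conj_le {a b : Ω} (x : G) : Nat.card {y : G // IsConj x y ∧ y • a = a ∧ y • b = b} ≤
    Nat.card {y : ↥(stabilizer G a ⊓ stabilizer G b) // orderOf y = orderOf x} := by
  refine Nat.card_le_card_of_injective (fun y => ⟨⟨y.1, mem_inf.2 ⟨mem_stabilizer_iff.2 y.2.2.1,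
    mem_stabilizer_iff.2 y.2.2.2⟩⟩, ?_⟩) ?_
  · rw [Subgroup.orderOf_mk]
    obtain ⟨c, hc⟩ := isConj_iff.1 y.2.1
    rw [← hc]
    exact (MulAut.conj c).orderOf_eq x
  · intro y z hyz
    have h1 := congrArg (fun t : {y : ↥(stabilizer G a ⊓ stabilizer G b) // orderOf y = orderOf x} => (t.1 : G)) hyz
    exact Subtype.ext h1

/-- `f (f - 1) ≤ |C(x)|` -/
theorem cent_le (h2 : IsMultiplyPretransitive G Ω 2) (x : G) :
    #(mv Ω x)ᶜ * (#(mv Ω x)ᶜ - 1) ≤ Nat.card ↥(centralizer ({x} : Set G)) := by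
  rcases Nat.lt_or_ge 1 (#(mv Ω x)ᶜ) with h1 | h1
  · obtain ⟨a, ha, b, hb, hab⟩ := one_lt_card.1 h1
    have h3 := cent_eq h2 hab x
    have h4 : Nat.card {y : G // IsConj x y ∧ y • a = a ∧ y • b = b} ≤
        Nat.card ↥(stabilizer G a ⊓ stabilizer G b) := by
      refine Nat.card_le_card_of_injective (fun y => (⟨y.1, mem_inf.2 ⟨mem_stabilizer_iff.2 y.2.2.1,
          mem_stabilizer_iff.2 y.2.2.2⟩⟩ : ↥(stabilizer G a ⊓ stabilizer G b)))
        ?_
      intro y z hyz
      have h1 := congrArg (fun t : ↥(stabilizer G a ⊓ stabilizer G b) => (t : G)) hyz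
      exact Subtype.ext h1
    apply Nat.le_of_mul_le_mul_right _ (Nat.card_pos (α := ↥(stabilizer G a ⊓ stabilizer G b)))
    rw [h3]
    exact Nat.mul_le_mul_left _ h4
  · have : #(mv Ω x)ᶜ - 1 = 0 := by omega
    rw [this, mul_zero]
    exact Nat.zero_le _

end

/-- the number of the elements of order `p` -/
theorem card_orderOf_le {H : Type*} [Group H] [Finite H] {p : ℕ} [Fact p.Prime] (P : Sylow p H) :
    Nat.card {y : H // orderOf y = p} ≤ Nat.card (Sylow p H) * (Nat.card P - 1) := by
  classical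
  have hex : ∀ y : {y : H // orderOf y = p}, ∃ Q : Sylow p H, y.1 ∈ Q := by
    intro y
    have h1 : IsPGroup p (zpowers y.1) := IsPGroup.of_card (n := 1) (by rw [Nat.card_zpowers, y.2, pow_one])
    obtain ⟨Q, hQ⟩ := h1.exists_le_sylow
    exact ⟨Q, hQ (mem_zpowers _)⟩
  choose Q hQ using hex
  have hne : ∀ y : {y : H // orderOf y = p}, y.1 ≠ 1 := by
    intro y h1
    have h3 := y.2
    rw [h1, orderOf_one] at h3
    exact (Fact.out : p.Prime).one_lt.ne h3
  have h1 : Nat.card {y : H // orderOf y = p} ≤ Nat.card (Σ R : Sylow p H, {y : R // y ≠ 1}) := by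
    refine Nat.card_le_card_of_injective (fun y => ⟨Q y, ⟨⟨y.1, hQ y⟩, fun hc => hne y (congrArg Subtype.val hc)⟩⟩) ?_
    intro y z hyz
    have h3 := congrArg (fun t : (Σ R : Sylow p H, {y : R // y ≠ 1}) => ((t.2 : t.1) : H)) hyz
    exact Subtype.ext h3
  have := Fintype.ofFinite (Sylow p H)
  rw [Nat.card_sigma] at h1
  have h3 : ∀ R : Sylow p H, Nat.card {y : R // y ≠ 1} = Nat.card P - 1 := by
    intro R
    have := Fintype.ofFinite R
    have e : Nat.card R = Nat.card P := Nat.card_congr (R.equiv P).toEquiv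
    rw [← e, Nat.card_eq_fintype_card, Fintype.card_subtype_compl, Fintype.card_subtype_eq, Nat.card_eq_fintype_card]
    rfl
  rw [Finset.sum_congr rfl fun R _ => h3 R, sum_const, Finset.card_univ, smul_eq_mul, ← Nat.card_eq_fintype_card] at h1
  exact h1

end Cfsg.Agent.H579.Pr
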