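import Cfsg.Agent.H579.Pr.Rows
import Cfsg.Agent.H426.FC.Main
import Cfsg.Agent.H411.PrA.Defs

/-!
# Elements of prime order with few cycles in 2-transitive groups: Lemma 2T of S3618 from the list (helper579)

`x` of prime order `p` with `q` cycles of length `p`, `2 ≤ q < p`, in a 2-transitive group which does not contain the alternating
group: the number `f` of fixed points satisfies `2 (f + 1) ≤ 5 q`.
-/

set_option autoImplicit false
open Cfsg

namespace Cfsg.Agent.H579.Pr

open MulAction Subgroup Cfsg.Agent.H384.TwoTrans Finset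

universe u v w

/-- the list of the 2-transitive groups with non-abelian socle -/
def Hub : Prop :=
  ∀ {G : Type u} {Ω : Type v} [Group G] [MulAction G Ω] {T : Subgroup G}, AS G Ω T → Known2 ↥T (Nat.card Ω)

/-- **Lemma 2T from the list** -/
theorem two_of_hub (hub : Hub.{u, v}) {G : Type u} {Ω : Type v} [Group G] [MulAction G Ω] [Fintype Ω]
    [DecidableEq Ω] [Finite G] [FaithfulSMul G Ω] (h2 : IsMultiplyPretransitive G Ω 2) {x : G} {p q : ℕ}
    (h : Few Ω x p q) :
    2 * (((mv Ω x)ᶜ).card + 1) ≤ 5 * q ∨ alternatingGroup Ω ≤ (toPermHom G Ω).range := by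
  have h3 : 3 ≤ Nat.card Ω := by
    rw [Nat.card_eq_fintype_card, h.card_add]
    have h4 := Nat.mul_le_mul h.two h.three_le
    omega
  rcases reduction h2 h3 with ⟨N, hN, -, -, ⟨ℓ, hℓ, hexp⟩, h4, h5⟩ | ⟨T, A⟩
  · exact Or.inl (h.affine hN hℓ hexp h4 h5)
  · exact as_rows A (hub A) h

theorem support_mv {Ω : Type u} [Fintype Ω] [DecidableEq Ω] {K : Subgroup (Equiv.Perm Ω)} {x : Equiv.Perm Ω}
    (hx : x ∈ K) : mv Ω (⟨x, hx⟩ : K) = x.support := by
  ext a
  rw [mem_mv, Equiv.Perm.mem_support]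
  exact Iff.rfl

theorem perm_of_hub (hub : Hub.{u, u}) {Ω : Type u} [Fintype Ω] [DecidableEq Ω] (K : Subgroup (Equiv.Perm Ω))
    (h2 : IsMultiplyPretransitive K Ω 2) {x : Equiv.Perm Ω} (hx : x ∈ K) {p q : ℕ} (hp : p.Prime) (hxp : orderOf x = p)
    (hq : 2 ≤ q) (hqp : q < p) (hs : x.support.card = q * p) :
    2 * (Fintype.card Ω - q * p + 1) ≤ 5 * q ∨ alternatingGroup Ω ≤ K := by
  have h : Few Ω (⟨x, hx⟩ : K) p q :=
    { prime := hp
      two := hq
      lt := hqp
      ord := by rw [Subgroup.orderOf_mk, hxp]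
      card := by rw [support_mv, hs] }
  rcases two_of_hub hub h2 h with h1 | h1
  · left
    have h3 := h.card_add
    have h4 : Fintype.card Ω - q * p = ((mv Ω (⟨x, hx⟩ : K))ᶜ).card := by omega
    rw [h4]
    exact h1
  · right
    refine h1.trans ?_
    rintro _ ⟨g, rfl⟩
    exact g.2

/-- the form used in part A (helper411) -/
theorem twoT_of_hub (hub : Hub.{u, u}) {p : ℕ} (hp : p.Prime) : Cfsg.Agent.H411.PrA.TwoT.{u} p := by
  intro Ω _ _ K h2 x hx hxp q hq hqp hs
  exact perm_of_hub hub K h2 hx hp hxp hq hqp hs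

/-- the form used in part B (helper426) -/
theorem twoTrans_of_hub (hub : Hub.{u, u}) {p : ℕ} (hp : p.Prime) : Cfsg.Agent.H426.FC.TwoTrans.{u} p := by
  intro Ω _ _ K h2 x hx hxp hs2 hs hn
  have h1 : p ∣ x.support.card := by
    have h3 := dvd_card_mv (Ω := Ω) (x := (⟨x, hx⟩ : K)) hp (by rw [Subgroup.orderOf_mk, hxp])
    rwa [support_mv] at h3
  obtain ⟨q, hq⟩ := h1
  rw [mul_comm] at hq
  have hq2 : 2 ≤ q := by
    rw [hq] at hs2
    exact Nat.le_of_mul_le_mul_right hs2 hp.pos
  have hqp : q < p := by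
    rw [hq, pow_two] at hs
    exact Nat.lt_of_mul_lt_mul_right hs
  rcases perm_of_hub hub K h2 hx hp hxp hq2 hqp hq with h3 | h3
  · exfalso
    rw [hq] at hn
    have h4 : q * p ≤ Fintype.card Ω - q * p := by omega
    have h5 : q * 3 ≤ q * p := Nat.mul_le_mul_left q (by omega)
    omega
  · exact h3

end Cfsg.Agent.H579.Pr
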