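import Cfsg.Agent.H579.Pr.Reg
import Cfsg.Agent.H384.TwoCycPSL

/-!
# Few cycles of prime length: `PSL_d(q)`, `d ≥ 3` (helper579)
-/

set_option autoImplicit false

namespace Cfsg.Agent.H579.Pr

open MulAction Subgroup Cfsg Cfsg.Agent.H384.TwoTrans Cfsg.Agent.H384.TwoCycPSL
open scoped LinearAlgebra.Projectivization

universe u v w

section geo

variable {Ω : Type v} {F : Type w} [Field F] {ι : Type} [Fintype ι] [DecidableEq ι] {Φ : Ω ≃ ℙ F (ι → F)}

theorem ln_eq {α β γ δ : Ω} (h : α ≠ β) (h' : γ ≠ δ) (h1 : γ ∈ Ln Φ α β) (h2 : δ ∈ Ln Φ α β) :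
    Ln Φ γ δ = Ln Φ α β := by
  have h3 := Cfsg.Agent.H384.ProjLines.line_eq (fun hc => h (Φ.injective hc) : Φ α ≠ Φ β)
    (fun hc => h' (Φ.injective hc) : Φ γ ≠ Φ δ) h1 h2
  unfold Ln
  rw [h3]

/-- the number of the points of a subspace -/
theorem closed_card [Finite F] {S : Set Ω} (hS : ∀ a ∈ S, ∀ b ∈ S, a ≠ b → Ln Φ a b ⊆ S) :
    ∃ k, S.ncard * (Nat.card F - 1) + 1 = Nat.card F ^ k := by
  classical
  let s : Projectivization.Subspace F (ι → F) :=
    { carrier := Φ '' S
      mem_add' := by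
        rintro v w hv hw hvw ⟨a, ha, hav⟩ ⟨b, hb, hbw⟩
        have hle : (Projectivization.mk F (v + w) hvw).submodule ≤ (Φ a).submodule ⊔ (Φ b).submodule := by
          rw [hav, hbw, Projectivization.submodule_mk, Projectivization.submodule_mk, Projectivization.submodule_mk,
            Submodule.span_singleton_le_iff_mem]
          exact Submodule.add_mem_sup (Submodule.mem_span_singleton_self v) (Submodule.mem_span_singleton_self w)
        by_cases hab : a = b
        · subst hab
          rw [sup_idem] at hle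
          rw [Cfsg.Agent.H384.ProjLines.le_of_eq_sub hle]
          exact ⟨a, ha, rfl⟩
        · refine ⟨Φ.symm (Projectivization.mk F (v + w) hvw), hS a ha b hb hab ?_, Φ.apply_symm_apply _⟩
          change (Φ (Φ.symm _)).submodule ≤ _
          rw [Φ.apply_symm_apply]
          exact hle }
  set W : Submodule F (ι → F) := Projectivization.Subspace.submodule s with hW
  have hmem : ∀ c : ℙ F (ι → F), c.submodule ≤ W ↔ c ∈ Φ '' S := by
    intro c
    rw [← Submodule.mem_projectivization_iff_submodule_le, hW]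
    have : Submodule.projectivization (Projectivization.Subspace.submodule s) = s :=
      OrderIso.symm_apply_apply _ s
    rw [this]
    rfl
  have hinj : Function.Injective (Projectivization.map W.subtype W.injective_subtype) :=
    Projectivization.map_injective W.subtype W.injective_subtype
  have hr : {c : ℙ F (ι → F) | c.submodule ≤ W} = Set.range (Projectivization.map W.subtype W.injective_subtype) := by
    ext c
    constructor
    · intro h1
      rw [Set.mem_ofPred_eq, Projectivization.submodule_eq, Submodule.span_singleton_le_iff_mem] at h1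
      refine ⟨Projectivization.mk F (⟨c.rep, h1⟩ : W) (fun h0 => c.rep_nonzero (congrArg Subtype.val h0)), ?_⟩
      rw [Projectivization.map_mk]
      conv_rhs => rw [← c.mk_rep]
      rfl
    · rintro ⟨d, rfl⟩
      induction d with | h v hv =>
      rw [Projectivization.map_mk, Set.mem_ofPred_eq, Projectivization.submodule_mk,
        Submodule.span_singleton_le_iff_mem]
      exact v.2
  have h1 : S.ncard = Nat.card (ℙ F W) := by
    rw [← Set.ncard_image_of_injective S Φ.injective]
    have h2 : Φ '' S = {c : ℙ F (ι → F) | c.submodule ≤ W} := by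
      ext c
      rw [← hmem]
      rfl
    rw [h2, hr, ← Nat.card_coe_set_eq]
    exact Nat.card_congr (Equiv.ofInjective _ hinj).symm
  refine ⟨Module.finrank F W, ?_⟩
  have h3 := Projectivization.card' F W
  rw [h1, ← h3]
  exact Module.natCard_eq_pow_finrank

end geo

theorem ncard_orbit {G : Type u} {Ω : Type v} [Group G] [MulAction G Ω] {x : G} {p : ℕ} (hp : p.Prime)
    (hx : orderOf x = p) {c : Ω} (hc : x • c ≠ c) : (orbit (zpowers x) c).ncard = p := by
  have hf : Finite (zpowers x) := by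
    apply Nat.finite_of_card_ne_zero
    rw [Nat.card_zpowers, hx]
    exact hp.ne_zero
  have h1 : (orbit (zpowers x) c).ncard ∣ p := by
    rw [← MulAction.index_stabilizer]
    refine (stabilizer (zpowers x) c).index_dvd_card.trans ?_
    rw [Nat.card_zpowers, hx]
  rcases (Nat.dvd_prime hp).1 h1 with h2 | h2
  · exfalso
    obtain ⟨d, hd⟩ := Set.ncard_eq_one.1 h2
    have h3 : c ∈ orbit (zpowers x) c := mem_orbit_self c
    have h4 : x • c ∈ orbit (zpowers x) c := ⟨⟨x, mem_zpowers x⟩, rfl⟩
    rw [hd, Set.mem_singleton_iff] at h3 h4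
    exact hc (h4.trans h3.symm)
  · exact h2

variable {G : Type u} {Ω : Type v} [Group G] [MulAction G Ω] [Fintype Ω] [DecidableEq Ω] {T : Subgroup G}

/-- **the row `PSL_d(q)`, `d ≥ 3`** -/
theorem psl_geo [Finite G] {F : Type w} [Field F] [Finite F] {ι : Type} [Fintype ι] [DecidableEq ι]
    {Φ : Ω ≃ ℙ F (ι → F)}
    (hline : ∀ (g : G) (α β : Ω), α ≠ β → ∀ γ ∈ Ln Φ α β, g • γ ∈ Ln Φ (g • α) (g • β)) {d : ℕ} (hd : 3 ≤ d)
    (hn : Fintype.card Ω * (Nat.card F - 1) + 1 = Nat.card F ^ d) {x : G} {p q : ℕ} (h : Few Ω x p q) :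
    2 * (((mv Ω x)ᶜ).card + 1) ≤ 5 * q := by
  classical
  set r := Nat.card F with hr
  have hr2 : 2 ≤ r := Finite.one_lt_card
  have hq2 := h.two
  have hcard := h.card_add
  set f := ((mv Ω x)ᶜ).card with hf
  obtain ⟨s, hs⟩ : ∃ s, r = s + 1 := ⟨r - 1, by omega⟩
  rw [hs, Nat.add_sub_cancel] at hn
  have hfin : ∀ S : Set Ω, S.Finite := fun S => Set.toFinite S
  rcases Nat.lt_or_ge r p with hpr | hpr
  · -- `p > r`
    have hclosed : ∀ a ∈ ({a | x • a = a} : Set Ω), ∀ b ∈ ({a | x • a = a} : Set Ω), a ≠ b →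
        Ln Φ a b ⊆ {a | x • a = a} := by
      intro a ha b hb hab c hc
      rw [Set.mem_ofPred_eq] at ha hb ⊢
      by_contra hxc
      have h1 := ncard_orbit h.prime h.ord hxc
      have hinv : ∀ z ∈ zpowers x, z • a = a ∧ z • b = b := by
        intro z hz
        have e1 : zpowers x ≤ stabilizer G a := by rw [zpowers_le]; exact ha
        have e2 : zpowers x ≤ stabilizer G b := by rw [zpowers_le]; exact hb
        exact ⟨e1 hz, e2 hz⟩
      have h2 : orbit (zpowers x) c ⊆ Ln Φ a b \ {a, b} := by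
        rintro w ⟨⟨z, hz⟩, rfl⟩
        obtain ⟨e1, e2⟩ := hinv z hz
        refine ⟨?_, ?_⟩
        · have := hline z a b hab c hc
          rw [e1, e2] at this
          exact this
        · intro hw
          obtain ⟨e3, e4⟩ := hinv z⁻¹ (inv_mem hz)
          rcases hw with hw | hw
          · have hw' : z • c = a := hw
            apply hxc
            have : c = a := by rw [← inv_smul_smul z c, hw', e3]
            rw [this, ha]
          · have hw' : z • c = b := hw
            apply hxc
            have : c = b := by rw [← inv_smul_smul z c, hw', e4]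
            rw [this, hb]
      have h3 := Set.ncard_le_ncard h2 (hfin _)
      have h4 : (Ln Φ a b \ {a, b}).ncard + ({a, b} : Set Ω).ncard = (Ln Φ a b).ncard :=
        Set.ncard_sdiff_add_ncard_of_subset (by
          rintro w (rfl | rfl)
          · exact left_mem _ _
          · exact right_mem _ _) (hfin _)
      rw [Set.ncard_pair hab, ncard_eq hab] at h4
      omega
    obtain ⟨k, hk⟩ := closed_card hclosed
    have h1 : ({a | x • a = a} : Set Ω).ncard = f := by
      rw [hf, ← Set.ncard_coe_finset]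
      congr 1
      ext c
      simp [mem_mv]
    rw [h1, ← hr, hs, Nat.add_sub_cancel] at hk
    -- `r ^ d = q p s + r ^ k`
    have h2 : (s + 1) ^ d = q * p * s + (s + 1) ^ k := by
      rw [← hs] at hn ⊢
      rw [← hn, hcard, add_mul, add_assoc]
      rw [← hs] at hk
      rw [hk]
    have hpos : 0 < q * p * s := Nat.mul_pos (Nat.mul_pos (by omega) h.prime.pos) (by omega)
    have h3 : k < d := (Nat.pow_lt_pow_iff_right (show 1 < s + 1 by omega)).1 (by omega)
    obtain ⟨j, rfl⟩ : ∃ j, d = k + j := ⟨d - k, by omega⟩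
    have h4 : (s + 1) ^ k ∣ q * p * s := by
      have h5 : (s + 1) ^ k ∣ (s + 1) ^ (k + j) := pow_dvd_pow _ (by omega)
      rw [h2] at h5
      exact (Nat.dvd_add_left dvd_rfl).1 h5
    have h5 : Nat.Coprime ((s + 1) ^ k) (p * s) := by
      apply Nat.Coprime.pow_left
      apply Nat.Coprime.mul_right
      · rw [Nat.coprime_comm, Nat.Prime.coprime_iff_not_dvd h.prime]
        intro hc
        have := Nat.le_of_dvd (by omega) hc
        omega
      · exact (Nat.coprime_self_add_left).2 (Nat.coprime_one_left s) 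
    have h6 : (s + 1) ^ k ∣ q := by
      rw [mul_assoc] at h4
      exact h5.dvd_of_dvd_mul_right h4
    have h7 := Nat.le_of_dvd (by omega) h6
    have h8 : f * 1 ≤ f * s := Nat.mul_le_mul_left _ (by omega)
    omega
  · -- `p ≤ r`
    exfalso
    obtain ⟨y, hy⟩ : (mv Ω x).Nonempty := by
      rw [← Finset.card_pos, h.card]
      exact Nat.mul_pos (by omega) h.prime.pos
    have hy' : x • y ≠ y := mem_mv.1 hy
    set L0 := Ln Φ y (x • y) with hL0
    have hL0card : L0.ncard = r + 1 := ncard_eq (Ne.symm hy')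
    set A : Finset Ω := (mv Ω x)ᶜ.filter fun a => a ∉ L0 with hA
    set B : Finset Ω := (mv Ω x)ᶜ.filter fun a => a ∈ L0 with hB
    have hAB : A.card + B.card = f := by
      rw [hA, hB, hf, add_comm]
      exact Finset.card_filter_add_card_filter_not _
    have hBcard : B.card + 2 ≤ r + 1 := by
      have h1 : ((B : Finset Ω) : Set Ω) ⊆ L0 \ {y, x • y} := by
        intro a ha
        rw [Finset.mem_coe, hB, Finset.mem_filter, Finset.mem_compl, not_mem_mv] at ha
        refine ⟨ha.2, ?_⟩
        rintro (hc | hc)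
        · exact hy' (hc ▸ ha.1)
        · have hc' : a = x • y := hc
          rw [hc'] at ha
          exact hy' (smul_left_cancel x ha.1)
      have h2 := Set.ncard_le_ncard h1 (hfin _)
      have h4 : (L0 \ {y, x • y}).ncard + ({y, x • y} : Set Ω).ncard = L0.ncard :=
        Set.ncard_sdiff_add_ncard_of_subset (by
          rintro w (rfl | rfl)
          · exact left_mem _ _
          · exact right_mem _ _) (hfin _)
      rw [Set.ncard_pair (Ne.symm hy'), hL0card] at h4
      rw [Set.ncard_coe_finset] at h2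
      omega
    have hane : ∀ a ∈ A, x • a = a ∧ a ∉ L0 ∧ y ≠ a := by
      intro a ha
      rw [hA, Finset.mem_filter, Finset.mem_compl, not_mem_mv] at ha
      refine ⟨ha.1, ha.2, ?_⟩
      rintro rfl
      exact hy' ha.1
    -- the lines through `y` and the points of `A`
    have hdis : ∀ a ∈ A, ∀ b ∈ A, a ≠ b → Disjoint ((Ln Φ y a).toFinset.erase y) ((Ln Φ y b).toFinset.erase y) := by
      intro a ha b hb hab
      obtain ⟨ha1, ha2, ha3⟩ := hane a ha
      obtain ⟨hb1, hb2, hb3⟩ := hane b hb
      rw [Finset.disjoint_left]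
      intro z hz hz'
      rw [Finset.mem_erase, Set.mem_toFinset] at hz hz'
      -- the two lines are equal
      have h1 : Ln Φ y z = Ln Φ y a := ln_eq ha3 (Ne.symm hz.1) (left_mem _ _) hz.2
      have h2 : Ln Φ y z = Ln Φ y b := ln_eq hb3 (Ne.symm hz.1) (left_mem _ _) hz'.2
      have h3 : b ∈ Ln Φ y a := by rw [← h1, h2]; exact right_mem _ _
      have h4 : Ln Φ a b = Ln Φ y a := ln_eq ha3 hab (right_mem _ _) h3
      have h5 : y ∈ Ln Φ a b := by rw [h4]; exact left_mem _ _
      have h6 := hline x a b hab y h5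
      rw [ha1, hb1] at h6
      have h7 : L0 = Ln Φ a b := ln_eq hab (Ne.symm hy') h5 h6
      apply ha2
      rw [h7]
      exact left_mem _ _
    have hsub : A.biUnion (fun a => (Ln Φ y a).toFinset.erase y) ⊆ (L0.toFinset)ᶜ := by
      intro z hz
      rw [Finset.mem_biUnion] at hz
      obtain ⟨a, ha, hz⟩ := hz
      obtain ⟨ha1, ha2, ha3⟩ := hane a ha
      rw [Finset.mem_erase, Set.mem_toFinset] at hz
      rw [Finset.mem_compl, Set.mem_toFinset]
      intro hc
      have h1 : Ln Φ y z = Ln Φ y a := ln_eq ha3 (Ne.symm hz.1) (left_mem _ _) hz.2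
      have h2 : Ln Φ y z = L0 := ln_eq (Ne.symm hy') (Ne.symm hz.1) (left_mem _ _) hc
      apply ha2
      rw [← h2, h1]
      exact right_mem _ _
    have h1 := Finset.card_le_card hsub
    rw [Finset.card_biUnion hdis, Finset.card_compl, ← Set.ncard_eq_toFinset_card', hL0card] at h1
    have h2 : ∀ a ∈ A, ((Ln Φ y a).toFinset.erase y).card = r := by
      intro a ha
      obtain ⟨ha1, ha2, ha3⟩ := hane a ha
      rw [Finset.card_erase_of_mem (by rw [Set.mem_toFinset]; exact left_mem _ _), ← Set.ncard_eq_toFinset_card',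
        ncard_eq ha3, Nat.add_sub_cancel]
    rw [Finset.sum_congr rfl h2, Finset.sum_const, smul_eq_mul] at h1
    have hLle : r + 1 ≤ Fintype.card Ω := by
      rw [← hL0card, ← Nat.card_eq_fintype_card, ← Set.ncard_univ]
      exact Set.ncard_le_ncard (Set.subset_univ _) (hfin _)
    have h3 : (s + 1) ^ 3 ≤ (s + 1) ^ d := Nat.pow_le_pow_right (by omega) hd
    have h4 : q * p ≤ (r - 1) * r := Nat.mul_le_mul (by have := h.lt; omega) hpr
    have hs1 : 1 ≤ s := by omega
    rw [hs, Nat.add_sub_cancel] at h4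
    rw [hs] at h1 hBcard hLle
    have h5 : A.card * (s + 1) + (s + 2) ≤ Fintype.card Ω := by omega
    -- contradiction
    have h6 : f ≤ A.card + s := by omega
    have h7 : f * (s + 1) ≤ (A.card + s) * (s + 1) := Nat.mul_le_mul_right _ h6
    have h8 : Fintype.card Ω * s + 1 ≥ (s + 1) ^ 3 := by rw [hn]; exact h3
    nlinarith

theorem psl_row (A : AS G Ω T) {F : Type w} [Field F] [Fintype F] {d : ℕ} (hd : 3 ≤ d)
    (e : T ≃* Matrix.ProjectiveSpecialLinearGroup (Fin d) F)
    (hn : Fintype.card Ω * (Fintype.card F - 1) = Fintype.card F ^ d - 1) {x : G} {p q : ℕ} (h : Few Ω x p q) :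
    2 * (((mv Ω x)ᶜ).card + 1) ≤ 5 * q := by
  have := A.finG
  have := A.finΩ
  have := A.faithful
  obtain ⟨m, rfl⟩ : ∃ m, d = m + 1 + 1 := ⟨d - 2, by omega⟩
  obtain ⟨ℓ, hchar⟩ := CharP.exists F
  obtain ⟨⟨f, hf0⟩, hp, hf⟩ := FiniteField.card F ℓ
  have := Fact.mk hp
  simp only [PNat.mk_coe] at hf
  have hq2 : 2 ≤ Fintype.card F := Fintype.one_lt_card
  have hpF : ℓ ∣ Fintype.card F := by
    rw [hf]; exact dvd_pow_self ℓ (by omega)
  have hpn : ¬ ℓ ∣ Nat.card Ω := by
    intro h
    have h1 : ℓ ∣ Fintype.card F ^ (m + 1 + 1) - 1 := by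
      rw [← hn, ← Nat.card_eq_fintype_card (α := Ω)]; exact h.mul_right _
    have h2 : ℓ ∣ Fintype.card F ^ (m + 1 + 1) := hpF.trans (dvd_pow_self _ (by omega))
    have h3 : 1 ≤ Fintype.card F ^ (m + 1 + 1) := Nat.one_le_pow _ _ (by omega)
    have h4 := (Nat.dvd_sub_iff_right h3 h2).1 h1
    exact hp.one_lt.ne' (Nat.dvd_one.1 h4)
  obtain ⟨e', Φ, hΦ⟩ := H410.ASLie.psl_equiv A e hpn
  have hbig : 2 * (Nat.card F + 1) < Nat.card Ω := by
    rw [Nat.card_eq_fintype_card, Nat.card_eq_fintype_card]
    generalize Fintype.card F = q at *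
    have h1 : q ^ 3 ≤ q ^ (m + 1 + 1) := Nat.pow_le_pow_right (by omega) hd
    obtain ⟨a, rfl⟩ : ∃ a, q = a + 1 := ⟨q - 1, by omega⟩
    rw [Nat.add_sub_cancel] at hn
    by_contra hcon
    push Not at hcon
    have h2 : Fintype.card Ω * a ≤ (2 * (a + 1 + 1)) * a := Nat.mul_le_mul_right _ hcon
    rw [hn] at h2
    have h3 : (a + 1) ^ 3 ≤ 2 * (a + 1 + 1) * a + 1 := by omega
    nlinarith [sq_nonneg a]
  refine psl_geo (Φ := Φ) (d := m + 1 + 1) ?_ hd ?_ h
  · intro g α β hαβ γ hγ
    rw [← smul_line A.normal hΦ hbig g hαβ]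
    exact Set.smul_mem_smul_set hγ
  · rw [Nat.card_eq_fintype_card, hn]
    have h3 : 1 ≤ Fintype.card F ^ (m + 1 + 1) := Nat.one_le_pow _ _ (by omega)
    omega

end Cfsg.Agent.H579.Pr
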