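import Cfsg.Agent.H579.Pr.Small
import Cfsg.Agent.H499.TTRegRows
import Cfsg.Agent.H499.TTRegRGD
import Cfsg.Agent.H499.TTRegSyl
import Cfsg.Agent.S1163

/-!
# Few cycles of prime length: affine groups and groups of rank one (helper579)
-/

set_option autoImplicit false

namespace Cfsg.Agent.H579.Pr

open MulAction Subgroup Cfsg Cfsg.Agent.H384.TwoTrans Cfsg.Agent.H499.TT

universe u v w

/-- arithmetic -/
theorem num {ℓ e k p q : ℕ} (hℓ : ℓ.Prime) (hp : p.Prime) (hq : 2 ≤ q) (hqp : q < p) (h : ℓ ^ e = q * p + ℓ ^ k) :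
    ℓ ^ k ≤ q + 1 := by
  have h1 : ℓ ^ k < ℓ ^ e := by
    have : 0 < q * p := Nat.mul_pos (by omega) hp.pos
    omega
  have h2 : k < e := (Nat.pow_lt_pow_iff_right hℓ.one_lt).1 h1
  obtain ⟨j, rfl⟩ : ∃ j, e = k + (j + 1) := ⟨e - k - 1, by omega⟩
  have h3 : ℓ ^ k * (ℓ ^ (j + 1) - 1) = q * p := by
    rw [Nat.mul_sub_one, ← pow_add]
    omega
  by_cases hlp : ℓ = p
  · subst hlp
    rcases Nat.eq_zero_or_pos k with h0 | h0
    · subst h0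
      rw [pow_zero]
      omega
    obtain ⟨i, rfl⟩ : ∃ i, k = i + 1 := ⟨k - 1, by omega⟩
    have h4 : ℓ ^ i * (ℓ ^ (j + 1) - 1) = q := by
      apply Nat.eq_of_mul_eq_mul_right hℓ.pos
      rw [← h3]
      ring
    have hl := hℓ.two_le
    have h5 : ℓ - 1 ≤ ℓ ^ (j + 1) - 1 := by
      have : ℓ ^ 1 ≤ ℓ ^ (j + 1) := Nat.pow_le_pow_right hℓ.pos (by omega)
      rw [pow_one] at this
      omega
    rcases Nat.eq_zero_or_pos i with hi | hi
    · subst hi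
      rw [pow_zero, one_mul] at h4
      rw [zero_add, pow_one]
      omega
    · exfalso
      have h6 : ℓ ^ 1 ≤ ℓ ^ i := Nat.pow_le_pow_right hℓ.pos hi
      rw [pow_one] at h6
      have h7 : ℓ * 1 ≤ ℓ ^ i * (ℓ ^ (j + 1) - 1) := Nat.mul_le_mul h6 (by omega)
      omega
  · have h4 : Nat.Coprime (ℓ ^ k) p := Nat.Coprime.pow_left _ ((Nat.coprime_primes hℓ hp).2 hlp)
    have h5 : ℓ ^ k ∣ q * p := ⟨_, h3.symm⟩
    have h6 := Nat.le_of_dvd (by omega) (h4.dvd_of_dvd_mul_right h5)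
    omega

variable {G : Type u} {Ω : Type v} [Group G] [MulAction G Ω]

/-- the fixed points of an element normalising a regular subgroup -/
theorem fix_reg {U : Subgroup G} {Δ : Set Ω} (hU : ∀ u ∈ U, ∀ c ∈ Δ, u • c ∈ Δ)
    (free : ∀ u ∈ U, ∀ c ∈ Δ, u • c = c → u = 1) (trans : ∀ c ∈ Δ, ∀ d ∈ Δ, ∃ u ∈ U, u • c = d) {x : G}
    (hx : ∀ u ∈ U, x * u * x⁻¹ ∈ U) {b : Ω} (hb : b ∈ Δ) (hxb : x • b = b) :
    {c : Ω | c ∈ Δ ∧ x • c = c}.ncard = Nat.card ↥(U ⊓ centralizer ({x} : Set G)) ∧ Δ.ncard = Nat.card U := by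
  have key : ∀ u ∈ U, x • u • b = u • b ↔ u ∈ centralizer ({x} : Set G) := by
    intro u hu
    rw [mem_centralizer_singleton_iff]
    constructor
    · intro h
      have h1 : u⁻¹ * (x * u * x⁻¹) = 1 := by
        apply free _ (mul_mem (inv_mem hu) (hx u hu)) b hb
        rw [mul_smul, mul_smul, mul_smul]
        have h2 : x⁻¹ • b = b := by rw [inv_smul_eq_iff, hxb]
        rw [h2, h, inv_smul_smul]
      rw [inv_mul_eq_one, eq_mul_inv_iff_mul_eq] at h1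
      exact h1
    · intro h
      rw [← mul_smul, ← h, mul_smul, hxb]
  constructor
  · rw [← Nat.card_coe_set_eq]
    symm
    apply Nat.card_congr
    refine Equiv.ofBijective (fun u => ⟨(u : G) • b, hU u u.2.1 b hb, (key u u.2.1).2 u.2.2⟩) ⟨?_, ?_⟩
    · intro u v huv
      have h3 : (u : G) • b = (v : G) • b := congrArg Subtype.val huv
      have h4 : (v : G)⁻¹ * u = 1 := by
        apply free _ (mul_mem (inv_mem v.2.1) u.2.1) b hb
        rw [mul_smul, inv_smul_eq_iff, h3]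
      exact Subtype.ext (inv_mul_eq_one.1 h4).symm
    · rintro ⟨c, hc, hxc⟩
      obtain ⟨u, hu, rfl⟩ := trans b hb c hc
      exact ⟨⟨u, hu, (key u hu).1 hxc⟩, rfl⟩
  · rw [← Nat.card_coe_set_eq]
    symm
    apply Nat.card_congr
    refine Equiv.ofBijective (fun u : U => ⟨(u : G) • b, hU u u.2 b hb⟩) ⟨?_, ?_⟩
    · intro u v huv
      have h3 : (u : G) • b = (v : G) • b := congrArg Subtype.val huv
      have h4 : (v : G)⁻¹ * u = 1 := by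
        apply free _ (mul_mem (inv_mem v.2) u.2) b hb
        rw [mul_smul, inv_smul_eq_iff, h3]
      exact Subtype.ext (inv_mul_eq_one.1 h4).symm
    · rintro ⟨c, hc⟩
      obtain ⟨u, hu, rfl⟩ := trans b hb c hc
      exact ⟨⟨u, hu⟩, rfl⟩

variable [Fintype Ω] [DecidableEq Ω]

variable (Ω) in
/-- `x` has order `p` and `q` cycles of length `p`, `2 ≤ q < p` -/
structure Few (x : G) (p q : ℕ) : Prop where
  prime : p.Prime
  two : 2 ≤ q
  lt : q < p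
  ord : orderOf x = p
  card : (mv Ω x).card = q * p

theorem Few.card_add {x : G} {p q : ℕ} (h : Few Ω x p q) : Fintype.card Ω = q * p + ((mv Ω x)ᶜ).card := by
  rw [Finset.card_compl, h.card]
  have h1 : (mv Ω x).card ≤ Fintype.card Ω := Finset.card_le_univ _
  rw [h.card] at h1
  omega

/-- **affine groups** -/
theorem Few.affine [Finite G] {x : G} {p q : ℕ} (h : Few Ω x p q) {N : Subgroup G} (hN : N.Normal) {ℓ : ℕ}
    (hℓ : ℓ.Prime) (hexp : ∀ n ∈ N, n ^ ℓ = 1) (htr : ∀ x y : Ω, ∃ n ∈ N, n • x = y)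
    (hfree : ∀ x : Ω, ∀ n ∈ N, n • x = x → n = 1) : 2 * (((mv Ω x)ᶜ).card + 1) ≤ 5 * q := by
  have h2 := h.two
  rcases Finset.eq_empty_or_nonempty ((mv Ω x)ᶜ) with h0 | ⟨b, hb⟩
  · rw [h0, Finset.card_empty]
    omega
  rw [Finset.mem_compl, not_mem_mv] at hb
  obtain ⟨h3, h4⟩ := fix_reg (Δ := (Set.univ : Set Ω)) (fun _ _ _ _ => trivial) (fun u hu c _ => hfree c u hu)
    (fun c _ d _ => htr c d) (fun u hu => hN.conj_mem u hu x) (Set.mem_univ b) hb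
  have hpN : IsPGroup ℓ N := fun n => ⟨1, by
    rw [pow_one]
    exact Subtype.ext (hexp n n.2)⟩
  have hf := Fact.mk hℓ
  obtain ⟨e, he⟩ := IsPGroup.iff_card.1 hpN
  obtain ⟨k, hk⟩ := IsPGroup.iff_card.1 (hpN.to_le (inf_le_left : N ⊓ centralizer ({x} : Set G) ≤ N))
  rw [hk] at h3
  rw [he, Set.ncard_univ, Nat.card_eq_fintype_card] at h4
  have h5 : {c : Ω | c ∈ (Set.univ : Set Ω) ∧ x • c = c} = (((mv Ω x)ᶜ : Finset Ω) : Set Ω) := by
    ext c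
    simp [mem_mv]
  rw [h5, Set.ncard_coe_finset] at h3
  have h6 := h.card_add
  rw [h3, h4] at h6
  have h7 := num hℓ h.prime h.two h.lt h6
  rw [h3]
  omega

variable {T : Subgroup G}

/-- the regular subgroup is normalised by the full point stabiliser -/
theorem reg_norm (A : AS G Ω T) {a b : Ω} {ℓ : ℕ} (hℓ : ℓ.Prime) {U : Subgroup G} (R : Reg T a ℓ U) (hb : b ≠ a)
    (hcop : ¬ ℓ ∣ Nat.card ↥(T ⊓ stabilizer G a ⊓ stabilizer G b)) {g : G} (hg : g • a = a) :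
    ∀ u ∈ U, g * u * g⁻¹ ∈ U := by
  have := A.finG
  have := A.finΩ
  have hAn := A.normal
  intro u hu
  have hUK : U ≤ T ⊓ stabilizer G a := le_inf R.le (fun u hu => R.fix u hu)
  have hnorm : (U.subgroupOf (T ⊓ stabilizer G a)).Normal := ⟨fun n hn k => by
    rw [mem_subgroupOf] at hn ⊢
    exact R.norm k k.2.1 k.2.2 n hn⟩
  have h1 := NC.stab_card A a
  have h2 := R.card A hb
  have h3 := R.card_U hb
  rw [h1, h3, Nat.add_sub_cancel] at h2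
  have h4 : Nat.card ↥(T ⊓ stabilizer G a) = Nat.card U * Nat.card ↥(T ⊓ stabilizer G a ⊓ stabilizer G b) :=
    Nat.eq_of_mul_eq_mul_left (by omega) h2
  have h5 := (U.subgroupOf (T ⊓ stabilizer G a)).card_mul_index
  rw [Nat.card_congr (subgroupOfEquivOfLe hUK).toEquiv, h4] at h5
  have h6 : (U.subgroupOf (T ⊓ stabilizer G a)).index = Nat.card ↥(T ⊓ stabilizer G a ⊓ stabilizer G b) :=
    Nat.eq_of_mul_eq_mul_left Nat.card_pos h5
  have hgu : g * u * g⁻¹ ∈ T ⊓ stabilizer G a := by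
    refine ⟨hAn.conj_mem u (R.le hu) g, ?_⟩
    show (g * u * g⁻¹) • a = a
    have h7 : g⁻¹ • a = a := by rw [inv_smul_eq_iff, hg]
    rw [mul_smul, mul_smul, h7, R.fix u hu, hg]
  obtain ⟨j, hj⟩ := R.pg ⟨u, hu⟩
  have hj' : u ^ ℓ ^ j = 1 := congrArg Subtype.val hj
  set z : ↥(T ⊓ stabilizer G a) := ⟨g * u * g⁻¹, hgu⟩ with hz
  have h7 : z ^ ℓ ^ j = 1 := by
    apply Subtype.ext
    show (g * u * g⁻¹) ^ ℓ ^ j = 1
    rw [conj_pow, hj']
    group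
  have h8 : z ∈ U.subgroupOf (T ⊓ stabilizer G a) := by
    apply mem_of_coprime_index' h7
    rw [h6]
    exact Nat.Coprime.pow_left _ ((Nat.Prime.coprime_iff_not_dvd hℓ).2 hcop)
  exact mem_subgroupOf.1 h8
where
  mem_of_coprime_index' {K : Type u} [Group K] {N : Subgroup K} [N.Normal] {y : K} {k : ℕ} (hk : y ^ k = 1)
      (h : k.Coprime N.index) : y ∈ N := by
    have h1 : y ^ N.index ∈ N := N.pow_index_mem y
    have h2 := Nat.gcd_eq_gcd_ab k N.index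
    rw [h.gcd_eq_one] at h2
    have h3 : y = (y ^ k) ^ (Nat.gcdA k N.index) * (y ^ N.index) ^ (Nat.gcdB k N.index) := by
      rw [← zpow_natCast y k, ← zpow_natCast y N.index, ← zpow_mul, ← zpow_mul, ← zpow_add, ← h2, Nat.cast_one,
        zpow_one]
    rw [h3, hk, one_zpow, one_mul]
    exact zpow_mem h1 _

/-- **groups of rank one** -/
theorem Few.reg (A : AS G Ω T) {x : G} {p q : ℕ} (h : Few Ω x p q) {α : Ω} {ℓ : ℕ} (hℓ : ℓ.Prime) {U : Subgroup G}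
    (R : Reg T α ℓ U)
    (hcop : ∀ a b : Ω, b ≠ a → ¬ ℓ ∣ Nat.card ↥(T ⊓ stabilizer G a ⊓ stabilizer G b)) :
    2 * (((mv Ω x)ᶜ).card + 1) ≤ 5 * q := by
  have hfin := A.finG
  have h2 := h.two
  rcases Nat.lt_or_ge (((mv Ω x)ᶜ).card) 2 with h0 | h0
  · omega
  obtain ⟨a, ha, b, hb, hab⟩ := Finset.one_lt_card.1 h0
  rw [Finset.mem_compl, not_mem_mv] at ha hb
  obtain ⟨V, R'⟩ := R.exists_of A a
  have hf := Fact.mk hℓ
  have hx := reg_norm A hℓ R' (Ne.symm hab) (hcop a b (Ne.symm hab)) ha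
  obtain ⟨h3, h4⟩ := fix_reg (U := V) (Δ := ({a}ᶜ : Set Ω)) (fun u hu c hc => Reg.smul_ne (R'.fix u hu) hc)
    (fun u hu c hc => R'.free u hu c hc) (fun c hc d hd => R'.trans c d hc hd) hx (Ne.symm hab : b ∈ ({a}ᶜ : Set Ω)) hb
  obtain ⟨e, he⟩ := IsPGroup.iff_card.1 R'.pg
  obtain ⟨k, hk⟩ := IsPGroup.iff_card.1 (R'.pg.to_le (inf_le_left : V ⊓ centralizer ({x} : Set G) ≤ V))
  rw [hk] at h3
  have h5 : {c : Ω | c ∈ ({a}ᶜ : Set Ω) ∧ x • c = c} = ((((mv Ω x)ᶜ).erase a : Finset Ω) : Set Ω) := by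
    ext c
    rw [Finset.mem_coe, Finset.mem_erase, Finset.mem_compl, not_mem_mv]
    exact Iff.rfl
  rw [h5, Set.ncard_coe_finset, Finset.card_erase_of_mem (by rw [Finset.mem_compl, not_mem_mv]; exact ha)] at h3
  have h6 := h.card_add
  have h7 := R'.card_U (Ne.symm hab)
  rw [Nat.card_eq_fintype_card, he] at h7
  have h8 : ℓ ^ e = q * p + ℓ ^ k := by omega
  have h9 := num hℓ h.prime h.two h.lt h8
  omega

theorem psl2_row (A : AS G Ω T) {x : G} {p q : ℕ} (h : Few Ω x p q) {F : Type w} [Field F] [Fintype F]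
    (h4 : 4 ≤ Fintype.card F) (e : ↥T ≃* Matrix.ProjectiveSpecialLinearGroup (Fin 2) F)
    (hn : Fintype.card Ω = Fintype.card F + 1) : 2 * (((mv Ω x)ᶜ).card + 1) ≤ 5 * q := by
  obtain ⟨ℓ, hchar⟩ := CharP.exists F
  obtain ⟨⟨f, hf0⟩, hℓ, hF⟩ := FiniteField.card F ℓ
  simp only [PNat.mk_coe] at hF
  have := Fact.mk hℓ
  have hn' : Nat.card Ω = ℓ ^ f + 1 := by rw [Nat.card_eq_fintype_card, hn, hF]
  have hlf : ℓ ∣ ℓ ^ f := dvd_pow_self ℓ (by omega)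
  have hpn : ¬ ℓ ∣ Nat.card Ω := by
    rw [hn']
    intro hc
    exact hℓ.one_lt.ne' (Nat.dvd_one.1 ((Nat.dvd_add_right hlf).1 hc))
  obtain ⟨α, U, R⟩ := psl2_reg A (r := ℓ) e hpn
  refine h.reg A hℓ R fun a b hab hc => ?_
  obtain ⟨V, R'⟩ := R.exists_of A a
  have h1 := R'.card A hab
  have hc1 := card_psl2 (F := F) hF
  rw [← Nat.card_congr e.toEquiv, h1, hn', Nat.add_sub_cancel] at hc1
  set H := T ⊓ stabilizer G a ⊓ stabilizer G b with hH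
  have hpos : 1 ≤ ℓ ^ f := Nat.one_le_pow _ _ hℓ.pos
  have h3 : (ℓ ^ f) ^ 2 - 1 = (ℓ ^ f + 1) * (ℓ ^ f - 1) := by
    have := Nat.sq_sub_sq (ℓ ^ f) 1
    rwa [one_pow] at this
  have h5 : (ℓ ^ f + 1) * (ℓ ^ f * Nat.card H) * Nat.gcd 2 (ℓ ^ f - 1) ∣ ℓ ^ f * ((ℓ ^ f) ^ 2 - 1) := by
    rw [hc1, Nat.div_mul_cancel]
    rw [h3]
    exact (Nat.gcd_dvd_right 2 (ℓ ^ f - 1)).trans ((Dvd.intro_left _ rfl).trans (Dvd.intro_left _ rfl))
  have h6 : Nat.card H ∣ ℓ ^ f - 1 := by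
    have e1 : (ℓ ^ f + 1) * (ℓ ^ f * Nat.card H) * Nat.gcd 2 (ℓ ^ f - 1) =
        ((ℓ ^ f + 1) * ℓ ^ f) * (Nat.card H * Nat.gcd 2 (ℓ ^ f - 1)) := by ring
    have e2 : ℓ ^ f * ((ℓ ^ f) ^ 2 - 1) = ((ℓ ^ f + 1) * ℓ ^ f) * (ℓ ^ f - 1) := by rw [h3]; ring
    rw [e1, e2] at h5
    exact (Dvd.intro _ rfl).trans (Nat.dvd_of_mul_dvd_mul_left (by positivity) h5)
  have h7 : ℓ ∣ ℓ ^ f - (ℓ ^ f - 1) := Nat.dvd_sub hlf (hc.trans h6)
  rw [Nat.sub_sub_self hpos] at h7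
  exact hℓ.one_lt.ne' (Nat.dvd_one.1 h7)

theorem psu_row (A : AS G Ω T) {x : G} {p q : ℕ} (h : Few Ω x p q) {F : Type} [Field F] [Fintype F] {r : ℕ}
    (hr : 3 ≤ r) (hF : Fintype.card F = r ^ 2) (e : ↥T ≃* Cfsg.PSU 3 F r) (hn : Fintype.card Ω = r ^ 3 + 1) :
    2 * (((mv Ω x)ᶜ).card + 1) ≤ 5 * q := by
  obtain ⟨ℓ, hchar⟩ := CharP.exists F
  obtain ⟨⟨f, hf0⟩, hℓ, hF'⟩ := FiniteField.card F ℓ
  simp only [PNat.mk_coe] at hF'
  have := Fact.mk hℓ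
  have hlr : ℓ ∣ r := by
    apply hℓ.dvd_of_dvd_pow (n := 2)
    rw [← hF, hF']
    exact dvd_pow_self ℓ (by omega)
  have hn' : Nat.card Ω = r ^ 3 + 1 := by rw [Nat.card_eq_fintype_card, hn]
  have hpn : ¬ ℓ ∣ Nat.card Ω := by
    rw [hn']
    intro hc
    exact hℓ.one_lt.ne' (Nat.dvd_one.1 ((Nat.dvd_add_right (hlr.trans (dvd_pow_self r (by norm_num)))).1 hc))
  obtain ⟨α, U, R⟩ := psu_reg A (r := ℓ) hF e hpn
  refine h.reg A hℓ R fun a b hab hc => ?_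
  obtain ⟨V, R'⟩ := R.exists_of A a
  have h1 := R'.card A hab
  rw [hn', Nat.add_sub_cancel] at h1
  set H := T ⊓ stabilizer G a ⊓ stabilizer G b with hH
  obtain ⟨t, rfl⟩ : ∃ t, r = t + 1 := ⟨r - 1, by omega⟩
  have hcard := Cfsg.Agent.HKS.EndOrd.card_psu_three (F := F) hF
  rw [← Nat.card_congr e.toEquiv, h1] at hcard
  have hHd : Nat.gcd 3 (t + 2) * Nat.card H = t * (t + 2) := by
    have e1 : (t + 1) ^ 3 + 1 = (t + 2) * (t ^ 2 + t + 1) := by ring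
    rw [e1] at hcard
    have e2 : ((t + 1) ^ 3 * ((t + 2) * (t ^ 2 + t + 1))) * (Nat.gcd 3 (t + 2) * Nat.card H) =
        ((t + 1) ^ 3 * ((t + 2) * (t ^ 2 + t + 1))) * (t * (t + 2)) := by
      calc ((t + 1) ^ 3 * ((t + 2) * (t ^ 2 + t + 1))) * (Nat.gcd 3 (t + 2) * Nat.card H)
          = Nat.gcd 3 (t + 2) * ((t + 2) * (t ^ 2 + t + 1) * ((t + 1) ^ 3 * Nat.card H)) := by ring
        _ = (t + 1) ^ 3 * (t * ((t + 2) ^ 2 * (t ^ 2 + t + 1))) := hcard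
        _ = _ := by ring
    exact Nat.eq_of_mul_eq_mul_left (by positivity) e2
  have h6 : ℓ ∣ t * (t + 2) := by
    rw [← hHd]
    exact hc.mul_left _
  have h7 : ℓ ∣ (t + 1) ^ 2 - t * (t + 2) := Nat.dvd_sub (hlr.trans (dvd_pow_self _ (by norm_num))) h6
  have h8 : (t + 1) ^ 2 - t * (t + 2) = 1 := by
    have : (t + 1) ^ 2 = t * (t + 2) + 1 := by ring
    omega
  rw [h8] at h7
  exact hℓ.one_lt.ne' (Nat.dvd_one.1 h7)

theorem ree_row (A : AS G Ω T) {x : G} {p q : ℕ} (h : Few Ω x p q) {K : Type w} [Field K] [Fintype K] {m : ℕ}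
    (hm : 1 ≤ m) (hK : Fintype.card K = 3 ^ (2 * m + 1)) (e : ↥T ≃* ↥(Cfsg.Lie.twistedG2 K (3 ^ m)))
    (hn : Fintype.card Ω = Fintype.card K ^ 3 + 1) : 2 * (((mv Ω x)ᶜ).card + 1) ≤ 5 * q := by
  have hn' : Nat.card Ω = Fintype.card K ^ 3 + 1 := by rw [Nat.card_eq_fintype_card, hn]
  obtain ⟨α, U, R⟩ := ree_reg A hm hK e hn'
  refine h.reg A Nat.prime_three R fun a b hab hc => ?_
  obtain ⟨V, R'⟩ := R.exists_of A a
  have h1 := R'.card A hab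
  rw [Nat.card_congr e.toEquiv, Cfsg.Agent.LieRecognition.ReeFinal.card hK, hn', hK, Nat.add_sub_cancel] at h1
  set H := T ⊓ stabilizer G a ⊓ stabilizer G b with hH
  set r := 3 ^ (2 * m + 1) with hr
  have hr3 : 3 ∣ r := dvd_pow_self 3 (by omega)
  have hrpos : 0 < r := by positivity
  have hHc : Nat.card H = r - 1 := by
    have h2 : ((r ^ 3 + 1) * r ^ 3) * Nat.card H = ((r ^ 3 + 1) * r ^ 3) * (r - 1) := by
      calc ((r ^ 3 + 1) * r ^ 3) * Nat.card H = (r ^ 3 + 1) * (r ^ 3 * Nat.card H) := by ring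
        _ = r ^ 3 * (r - 1) * (r ^ 3 + 1) := h1.symm
        _ = _ := by ring
    exact Nat.eq_of_mul_eq_mul_left (by positivity) h2
  rw [hHc] at hc
  omega

/-- the Suzuki groups: the Sylow 2-subgroups intersect trivially -/
theorem sz_TI {F : Type*} [Field F] [Fintype F] {m : ℕ} (hm : 1 ≤ m) (hF : Fintype.card F = 2 ^ (2 * m + 1))
    (P Q : Sylow 2 ↥(Cfsg.Lie.Sz F (2 ^ (m + 1)))) (hPQ : P ≠ Q) :
    (P : Subgroup ↥(Cfsg.Lie.Sz F (2 ^ (m + 1)))) ⊓ (Q : Subgroup ↥(Cfsg.Lie.Sz F (2 ^ (m + 1)))) = ⊥ := by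
  obtain ⟨-, S, -, -, -, hreg⟩ := Cfsg.Agent.S1163.result hm hF
  have hf : Fact (Nat.Prime 2) := ⟨Nat.prime_two⟩
  have hfin : Finite (Sylow 2 ↥(Cfsg.Lie.Sz F (2 ^ (m + 1)))) := inferInstance
  obtain ⟨a, rfl⟩ := MulAction.exists_smul_eq ↥(Cfsg.Lie.Sz F (2 ^ (m + 1))) S P
  obtain ⟨b, rfl⟩ := MulAction.exists_smul_eq ↥(Cfsg.Lie.Sz F (2 ^ (m + 1))) S Q
  rw [eq_bot_iff]
  rintro g ⟨hg1, hg2⟩
  rw [mem_bot]
  have h1 : a⁻¹ * g * a ∈ (S : Subgroup ↥(Cfsg.Lie.Sz F (2 ^ (m + 1)))) := by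
    have : g ∈ ((a • S : Sylow 2 _) : Subgroup ↥(Cfsg.Lie.Sz F (2 ^ (m + 1)))) := hg1
    rw [Sylow.coe_subgroup_smul, Subgroup.mem_smul_pointwise_iff_exists] at this
    obtain ⟨s, hs, rfl⟩ := this
    simpa [mul_assoc] using hs
  have h2 : b⁻¹ * g * b ∈ (S : Subgroup ↥(Cfsg.Lie.Sz F (2 ^ (m + 1)))) := by
    have : g ∈ ((b • S : Sylow 2 _) : Subgroup ↥(Cfsg.Lie.Sz F (2 ^ (m + 1)))) := hg2
    rw [Sylow.coe_subgroup_smul, Subgroup.mem_smul_pointwise_iff_exists] at this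
    obtain ⟨s, hs, rfl⟩ := this
    simpa [mul_assoc] using hs
  have h3 : a⁻¹ * b ∉ Subgroup.normalizer ((S : Subgroup ↥(Cfsg.Lie.Sz F (2 ^ (m + 1)))) :
      Set ↥(Cfsg.Lie.Sz F (2 ^ (m + 1)))) := by
    intro hc
    apply hPQ
    have h4 : (a⁻¹ * b) • S = S := Sylow.smul_eq_iff_mem_normalizer.2 hc
    rw [mul_smul, inv_smul_eq_iff] at h4
    exact h4.symm
  set H := Subgroup.normalizer ((S : Subgroup ↥(Cfsg.Lie.Sz F (2 ^ (m + 1)))) :
      Set ↥(Cfsg.Lie.Sz F (2 ^ (m + 1)))) with hH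
  have hSH : (S : Subgroup ↥(Cfsg.Lie.Sz F (2 ^ (m + 1)))) ≤ H := Subgroup.le_normalizer
  have h5 : ((a⁻¹ * b : ↥(Cfsg.Lie.Sz F (2 ^ (m + 1)))) : ↥(Cfsg.Lie.Sz F (2 ^ (m + 1))) ⧸ H) ≠
      QuotientGroup.mk 1 := by
    intro hc
    rw [QuotientGroup.eq] at hc
    apply h3
    have := inv_mem hc
    simpa using this
  obtain ⟨s, -, hs⟩ := hreg _ _ h5 h5
  have h6 : (⟨a⁻¹ * g * a, h1⟩ : ↥(S : Subgroup ↥(Cfsg.Lie.Sz F (2 ^ (m + 1))))) = 1 := by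
    rw [hs 1 (one_smul _ _)]
    apply hs
    show ((a⁻¹ * g * a * (a⁻¹ * b) : ↥(Cfsg.Lie.Sz F (2 ^ (m + 1)))) : ↥(Cfsg.Lie.Sz F (2 ^ (m + 1))) ⧸ H) =
      ((a⁻¹ * b : ↥(Cfsg.Lie.Sz F (2 ^ (m + 1)))) : ↥(Cfsg.Lie.Sz F (2 ^ (m + 1))) ⧸ H)
    rw [QuotientGroup.eq]
    have h7 : (a⁻¹ * g * a * (a⁻¹ * b))⁻¹ * (a⁻¹ * b) = (b⁻¹ * g * b)⁻¹ := by group
    rw [h7]
    exact hSH (inv_mem h2)
  have h7 : a⁻¹ * g * a = 1 := congrArg Subtype.val h6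
  calc g = a * (a⁻¹ * g * a) * a⁻¹ := by group
    _ = 1 := by rw [h7]; group

theorem sz_row (A : AS G Ω T) {x : G} {p q : ℕ} (h : Few Ω x p q) {F : Type w} [Field F] [Fintype F] {m : ℕ}
    (hm : 1 ≤ m) (hF : Fintype.card F = 2 ^ (2 * m + 1)) (e : ↥T ≃* ↥(Cfsg.Lie.Sz F (2 ^ (m + 1))))
    (hn : Fintype.card Ω = Fintype.card F ^ 2 + 1) : 2 * (((mv Ω x)ᶜ).card + 1) ≤ 5 * q := by
  have hn' : Nat.card Ω = Fintype.card F ^ 2 + 1 := by rw [Nat.card_eq_fintype_card, hn]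
  have hf : Fact (Nat.Prime 2) := ⟨Nat.prime_two⟩
  obtain ⟨hcard, S, hN, hidx, -, -⟩ := Cfsg.Agent.S1163.result hm hF
  set r := 2 ^ (2 * m + 1) with hr
  have hr2 : 2 ∣ r := dvd_pow_self 2 (by omega)
  have hrpos : 0 < r := by positivity
  have hodd : ¬ 2 ∣ (r - 1) * (r ^ 2 + 1) := by
    intro hc
    rcases (Nat.Prime.dvd_mul Nat.prime_two).1 hc with h1 | h1
    · omega
    · have h2 : 2 ∣ r ^ 2 := hr2.trans (dvd_pow_self r (by norm_num))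
      omega
  have hfinX : Finite ↥(Cfsg.Lie.Sz F (2 ^ (m + 1))) := inferInstance
  have hS : Nat.card S = r ^ 2 := by
    have h1 := card_sylow_eq' S (k := (2 * m + 1) * 2) (m := (r - 1) * (r ^ 2 + 1)) (by
      rw [hcard, pow_mul]; ring) hodd
    rw [h1, pow_mul]
  have hc : Nat.card (Sylow 2 ↥(Cfsg.Lie.Sz F (2 ^ (m + 1)))) = r ^ 2 + 1 := by
    rw [Sylow.card_eq_index_normalizer S]
    exact hidx
  obtain ⟨α, U, R⟩ := reg_of_TI A e (sz_TI hm hF) S (by rw [hc, hS]) (by rw [hn', hc, hF]) (by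
    rw [hS]
    exact hr2.trans (dvd_pow_self r (by norm_num)))
  refine h.reg A Nat.prime_two R fun a b hab hc => ?_
  obtain ⟨V, R'⟩ := R.exists_of A a
  have h1 := R'.card A hab
  rw [Nat.card_congr e.toEquiv, hcard, hn', hF, Nat.add_sub_cancel] at h1
  set H := T ⊓ stabilizer G a ⊓ stabilizer G b with hH
  have hHc : Nat.card H = r - 1 := by
    have h2 : ((r ^ 2 + 1) * r ^ 2) * Nat.card H = ((r ^ 2 + 1) * r ^ 2) * (r - 1) := by
      calc ((r ^ 2 + 1) * r ^ 2) * Nat.card H = (r ^ 2 + 1) * (r ^ 2 * Nat.card H) := by ring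
        _ = r ^ 2 * (r - 1) * (r ^ 2 + 1) := h1.symm
        _ = _ := by ring
    exact Nat.eq_of_mul_eq_mul_left (by positivity) h2
  rw [hHc] at hc
  omega
where
  card_sylow_eq' {H : Type _} [Group H] [Finite H] {p : ℕ} [hf : Fact p.Prime] (P : Sylow p H) {k m : ℕ}
      (hH : Nat.card H = p ^ k * m) (hm : ¬ p ∣ m) : Nat.card P = p ^ k := by
    obtain ⟨j, hj⟩ := IsPGroup.iff_card.1 P.isPGroup'
    have h1 := (P : Subgroup H).card_mul_index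
    have h2 : ¬ p ∣ (P : Subgroup H).index := P.not_dvd_index
    apply Nat.dvd_antisymm
    · have h3 : Nat.card P ∣ p ^ k * m := ⟨_, by rw [← hH, h1]⟩
      refine (Nat.Coprime.dvd_mul_right ?_).1 h3
      change Nat.Coprime (Nat.card P) m
      rw [hj]
      exact Nat.Coprime.pow_left _ ((Nat.Prime.coprime_iff_not_dvd hf.out).2 hm)
    · have h3 : p ^ k ∣ Nat.card P * (P : Subgroup H).index := ⟨m, by rw [← hH]; exact h1⟩
      exact (Nat.Coprime.dvd_mul_right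
        (Nat.Coprime.pow_left _ ((Nat.Prime.coprime_iff_not_dvd hf.out).2 h2))).1 h3

end Cfsg.Agent.H579.Pr
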