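import Cfsg.Agent.H579.Pr.Reg
import Cfsg.Agent.H579.Pr.Three
import Cfsg.Agent.H499.TTSp
import Cfsg.Agent.H249.SpTwoExport
import Cfsg.Agent.ClassicalGeometry.TwoFamilies

/-!
# Elements of prime order with few cycles in 2-transitive groups: the row `Sp_2m(2)` (helper579)
-/

set_option autoImplicit false
open Cfsg

namespace Cfsg.Agent.H579.Pr

open MulAction Subgroup Cfsg.Agent.H384.TwoTrans Cfsg.Agent.H499.TT
open Cfsg.Agent.ClassicalGeometry.SympBasic
open Cfsg.Agent.ClassicalGeometry.SympSiegel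
open Cfsg.Agent.ClassicalGeometry.SympAutExists
open Cfsg.Agent.H249.SpTwo

universe u v w

section Form

variable {F : Type w} [Field F] [Fintype F] {m : ℕ}

theorem four_pow (k : ℕ) : 4 ^ k = 2 ^ k * 2 ^ k := by
  rw [← mul_pow]
  norm_num

/-- the fixed vectors -/
def fixV (s : Matrix.symplecticGroup (Fin m) F) : Submodule F (Fin m ⊕ Fin m → F) where
  carrier := {v | s • v = v}
  add_mem' := by
    intro a b ha hb
    have ha' : s • a = a := ha
    have hb' : s • b = b := hb
    show s • (a + b) = a + b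
    rw [smul_add', ha', hb']
  zero_mem' := smul_zero' s
  smul_mem' := by
    intro c a ha
    have ha' : s • a = a := ha
    show s • (c • a) = c • a
    rw [smul_smul', ha']

theorem mem_fixV {s : Matrix.symplecticGroup (Fin m) F} {v : Fin m ⊕ Fin m → F} : v ∈ fixV s ↔ s • v = v := Iff.rfl

theorem pow_smul_fix {s : Matrix.symplecticGroup (Fin m) F} {v : Fin m ⊕ Fin m → F} (h : s • v = v) (i : ℕ) :
    s ^ i • v = v := by
  induction i with
  | zero => rw [pow_zero, one_smul]
  | succ i ih => rw [pow_succ, mul_smul, h, ih]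

theorem smul_sum' {ι : Type*} (s : Matrix.symplecticGroup (Fin m) F) (t : Finset ι)
    (φ : ι → (Fin m ⊕ Fin m → F)) : s • (∑ i ∈ t, φ i) = ∑ i ∈ t, s • φ i := by
  classical
  induction t using Finset.induction_on with
  | empty => rw [Finset.sum_empty, Finset.sum_empty, smul_zero']
  | insert a t ha ih => rw [Finset.sum_insert ha, Finset.sum_insert ha, smul_add', ih]

theorem form_sum_right {ι : Type*} (u : Fin m ⊕ Fin m → F) (t : Finset ι)
    (φ : ι → (Fin m ⊕ Fin m → F)) : sympForm m F u (∑ i ∈ t, φ i) = ∑ i ∈ t, sympForm m F u (φ i) := by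
  classical
  induction t using Finset.induction_on with
  | empty => rw [Finset.sum_empty, Finset.sum_empty, sympForm_zero_right]
  | insert a t ha ih => rw [Finset.sum_insert ha, Finset.sum_insert ha, sympForm_add_right, ih]

theorem odd_nsmul (hF : Fintype.card F = 2) {n : ℕ} (hn : Odd n) (a : F) : n • a = a := by
  obtain ⟨k, rfl⟩ := hn
  rw [add_nsmul, mul_nsmul, two_nsmul, F_add_self hF, smul_zero, zero_add, one_nsmul]

theorem fixV_nondeg (hF : Fintype.card F = 2) {s : Matrix.symplecticGroup (Fin m) F} {p : ℕ} (hp : Odd p)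
    (hs : s ^ p = 1) {u : Fin m ⊕ Fin m → F} (hu : s • u = u)
    (h : ∀ v, s • v = v → sympForm m F u v = 0) : u = 0 := by
  apply eq_zero_of_forall_sympForm_right
  intro v
  have h1 : s • (∑ i ∈ Finset.range p, s ^ i • v) = ∑ i ∈ Finset.range p, s ^ i • v := by
    rw [smul_sum']
    have h2 : ∀ i ∈ Finset.range p, s • s ^ i • v = s ^ (i + 1) • v := by
      intro i _
      rw [pow_succ', mul_smul]
    rw [Finset.sum_congr rfl h2]
    have h3 := Finset.sum_range_succ (fun i => s ^ i • v) p
    have h4 := Finset.sum_range_succ' (fun i => s ^ i • v) p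
    rw [h3] at h4
    simp only [pow_zero] at h4
    rw [hs] at h4
    exact (add_right_cancel h4).symm
  have h2 := h _ h1
  rw [form_sum_right] at h2
  have h3 : ∀ i ∈ Finset.range p, sympForm m F u (s ^ i • v) = sympForm m F u v := by
    intro i _
    have h4 := form_smul (s ^ i) u v
    rw [pow_smul_fix hu] at h4
    exact h4
  rw [Finset.sum_congr rfl h3, Finset.sum_const, Finset.card_range, odd_nsmul hF hp] at h2
  exact h2

theorem card_V (hF : Fintype.card F = 2) : Fintype.card (Fin m ⊕ Fin m → F) = 4 ^ m := by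
  rw [Fintype.card_fun, hF, Fintype.card_sum, Fintype.card_fin, ← two_mul, pow_mul]
  norm_num

theorem fix_card (hF : Fintype.card F = 2) {s : Matrix.symplecticGroup (Fin m) F} {p : ℕ} (hp : p.Prime)
    (hp2 : p ≠ 2) (hs : orderOf s = p) :
    ∃ c k, m = c + k ∧ 1 ≤ k ∧ Nat.card (fixV s) = 4 ^ c ∧ p ≤ 2 ^ k + 1 := by
  classical
  have hodd : Odd p := hp.odd_of_ne_two hp2
  have hsp : s ^ p = 1 := by rw [← hs, pow_orderOf_eq_one]
  let β : LinearMap.BilinForm F (fixV s) := (sympBilin m F).domRestrict₁₂ (fixV s) (fixV s)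
  have hβ : β.IsAlt := fun v => sympForm_self (v : Fin m ⊕ Fin m → F)
  obtain ⟨c, hc⟩ := Cfsg.Agent.ClassicalGeometry.TwoFamilies.exists_finrank_eq_ker_add β hβ
  have hker : LinearMap.ker β = ⊥ := by
    rw [LinearMap.ker_eq_bot']
    intro u hu
    apply Subtype.ext
    apply fixV_nondeg hF hodd hsp u.2
    intro v hv
    have h1 := LinearMap.congr_fun hu ⟨v, hv⟩
    exact h1
  rw [hker, finrank_bot, zero_add] at hc
  have hcard : Nat.card (fixV s) = 4 ^ c := by
    rw [Module.natCard_eq_pow_finrank (K := F), Nat.card_eq_fintype_card, hF, hc, ← two_mul, pow_mul]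
    norm_num
  have hle : Module.finrank F (fixV s) ≤ m + m := by
    refine (Submodule.finrank_le _).trans ?_
    rw [Module.finrank_fintype_fun_eq_card, Fintype.card_sum, Fintype.card_fin]
  have hcm : c ≤ m := by omega
  have hne : c ≠ m := by
    rintro rfl
    have h1 : fixV s = ⊤ := by
      apply Submodule.eq_top_of_finrank_eq
      rw [Module.finrank_fintype_fun_eq_card, Fintype.card_sum, Fintype.card_fin]
      exact hc
    have h2 : s = 1 := by
      apply ext_smul
      intro v
      rw [one_smul]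
      have h3 : v ∈ fixV s := by rw [h1]; trivial
      exact h3
    rw [h2, orderOf_one] at hs
    exact hp.one_lt.ne hs
  obtain ⟨k, rfl⟩ : ∃ k, m = c + k := ⟨m - c, by omega⟩
  refine ⟨c, k, rfl, by omega, hcard, ?_⟩
  have h1 := dvd_card_mv (Ω := (Fin (c + k) ⊕ Fin (c + k) → F)) hp hs
  have h2 : (mv (Fin (c + k) ⊕ Fin (c + k) → F) s)ᶜ.card = 4 ^ c := by
    rw [← hcard, ← Nat.card_eq_fintype_card (α := ↥((mv (Fin (c + k) ⊕ Fin (c + k) → F) s)ᶜ)) |>.trans
      (Fintype.card_coe _)]
    apply Nat.card_congr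
    apply Equiv.subtypeEquivRight
    intro v
    rw [Finset.mem_compl, not_mem_mv, mem_fixV]
  rw [Finset.card_compl, card_V hF] at h2
  have h3 : (mv (Fin (c + k) ⊕ Fin (c + k) → F) s).card ≤ 4 ^ (c + k) := by
    rw [← card_V (m := c + k) hF]
    exact Finset.card_le_univ _
  have h4 : (mv (Fin (c + k) ⊕ Fin (c + k) → F) s).card = 4 ^ c * ((2 ^ k - 1) * (2 ^ k + 1)) := by
    have h5 : (2 ^ k - 1) * (2 ^ k + 1) = 4 ^ k - 1 := by
      have h6 : 4 ^ k = 2 ^ k * 2 ^ k := four_pow k
      obtain ⟨z, hz⟩ : ∃ z, 2 ^ k = z + 1 := ⟨2 ^ k - 1, by have := Nat.one_le_two_pow (n := k); omega⟩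
      rw [h6, hz, Nat.add_sub_cancel]
      have h7 : (z + 1) * (z + 1) = z * (z + 1 + 1) + 1 := by ring
      rw [h7, Nat.add_sub_cancel]
    rw [h5, Nat.mul_sub, ← pow_add, mul_one]
    omega
  rw [h4] at h1
  rcases (hp.dvd_mul).1 h1 with h5 | h5
  · exfalso
    have h6 := hp.dvd_of_dvd_pow h5
    have h7 : p ∣ 2 := by
      have h8 : (4 : ℕ) = 2 ^ 2 := by norm_num
      rw [h8] at h6
      exact hp.dvd_of_dvd_pow h6
    exact hp2 ((Nat.prime_dvd_prime_iff_eq hp Nat.prime_two).1 h7)
  · have h2k : 2 ≤ 2 ^ k := by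
      calc 2 = 2 ^ 1 := by norm_num
        _ ≤ 2 ^ k := Nat.pow_le_pow_right (by norm_num) (by omega)
    rcases (hp.dvd_mul).1 h5 with h6 | h6
    · have := Nat.le_of_dvd (by omega) h6
      omega
    · exact Nat.le_of_dvd (by omega) h6

/-- an additive function is given by the form -/
theorem exists_repr (hF : Fintype.card F = 2) (φ : (Fin m ⊕ Fin m → F) → F) (hφ : ∀ u v, φ (u + v) = φ u + φ v) :
    ∃ w, ∀ v, φ v = sympForm m F w v := by
  have h0 : φ 0 = 0 := by
    have h1 := hφ 0 0
    rw [add_zero] at h1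
    rw [h1, F_add_self hF]
  let L : (Fin m ⊕ Fin m → F) →ₗ[F] F :=
    { toFun := φ
      map_add' := hφ
      map_smul' := by
        intro c v
        rcases F_cases hF c with rfl | rfl
        · rw [zero_smul, h0, RingHom.id_apply, zero_smul]
        · rw [one_smul, RingHom.id_apply, one_smul] }
  refine ⟨(LinearMap.BilinForm.toDual (sympBilin m F) sympBilin_nondegenerate).symm L, ?_⟩
  intro v
  have h1 := LinearMap.BilinForm.apply_toDual_symm_apply (B := sympBilin m F) (hB := sympBilin_nondegenerate) L v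
  exact h1.symm

end Form

variable {G : Type u} {Ω : Type v} [Group G] [MulAction G Ω] {T : Subgroup G}

theorem sp_arith {m c k n p q f : ℕ} (hm : 3 ≤ m) (hmc : m = c + k) (hk : 1 ≤ k) (hp : p ≤ 2 ^ k + 1) (hq : q < p)
    (hn : n = 2 ^ (m - 1) * (2 ^ m + 1) ∨ n = 2 ^ (m - 1) * (2 ^ m - 1)) (hf : f ≤ 4 ^ c)
    (hsum : n = q * p + f) : c ≤ 1 := by
  by_contra hc
  subst hmc
  obtain ⟨N, hN⟩ : ∃ N, N = 2 ^ (c + k - 2) := ⟨_, rfl⟩
  have hN2 : 2 ≤ N := by
    rw [hN]
    calc 2 = 2 ^ 1 := by norm_num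
      _ ≤ 2 ^ (c + k - 2) := Nat.pow_le_pow_right (by norm_num) (by omega)
  have h1 : 2 ^ (c + k - 1) = 2 * N := by
    rw [hN, ← pow_succ']
    congr 1
    omega
  have h2 : 2 ^ (c + k) = 4 * N := by
    rw [hN]
    have : c + k = (c + k - 2) + 2 := by omega
    rw [this, pow_add]
    norm_num
    ring
  have h3 : 2 ^ k ≤ N := by
    rw [hN]
    exact Nat.pow_le_pow_right (by norm_num) (by omega)
  have h4 : 4 ^ c ≤ 4 * N * N := by
    have h5 : 2 ^ c ≤ 2 * N := by
      rw [← h1]
      exact Nat.pow_le_pow_right (by norm_num) (by omega)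
    have h6 : 4 ^ c = 2 ^ c * 2 ^ c := four_pow c
    rw [h6]
    calc 2 ^ c * 2 ^ c ≤ (2 * N) * (2 * N) := Nat.mul_le_mul h5 h5
      _ = 4 * N * N := by ring
  have h5 : q * p ≤ N * (N + 1) := Nat.mul_le_mul (by omega) (by omega)
  rw [h1, h2] at hn
  obtain ⟨M, rfl⟩ : ∃ M, N = M + 2 := ⟨N - 2, by omega⟩
  have h6 : 2 * (M + 2) * (4 * (M + 2) - 1) ≤ n := by
    rcases hn with hn | hn
    · rw [hn]
      exact Nat.mul_le_mul_left _ (by omega)
    · exact hn.ge
  have h7 : 4 * (M + 2) - 1 = 4 * M + 7 := by omega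
  rw [h7] at h6
  have h8 : 2 * (M + 2) * (4 * M + 7) ≤ (M + 2) * (M + 2 + 1) + 4 * (M + 2) * (M + 2) := by
    calc 2 * (M + 2) * (4 * M + 7) ≤ n := h6
      _ = q * p + f := hsum
      _ ≤ _ := Nat.add_le_add h5 (hf.trans h4)
  nlinarith

theorem sp_row [Fintype Ω] [DecidableEq Ω] (A : AS G Ω T) {x : G} {p q : ℕ} (h : Few Ω x p q) {F : Type w} [Field F]
    [Fintype F] {m : ℕ} (hF : Fintype.card F = 2) (hm : 3 ≤ m) (e : ↥T ≃* PSp m F)
    (hn : Fintype.card Ω = 2 ^ (m - 1) * (2 ^ m + 1) ∨ Fintype.card Ω = 2 ^ (m - 1) * (2 ^ m - 1)) :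
    2 * (((mv Ω x)ᶜ).card + 1) ≤ 5 * q := by
  classical
  have := A.finG
  have := A.faithful
  have h2 := A.two
  have hT := Cfsg.Agent.H499.TT.sp_index A hF hm e
  obtain ⟨s0, hs0⟩ := exists_tau e x (by rw [hT]; trivial)
  have hn' := hn
  rw [← Nat.card_eq_fintype_card] at hn'
  have hmain := fun b : Ω => Cfsg.Agent.H249.SpTwo.main e A hF hm hn' b
  choose Q hQ hQ1 hQ2 using hmain
  have hQ2' : ∀ (b : Ω) (s : Matrix.symplecticGroup (Fin m) F), tau e s • b = b ↔ ∀ v, Q b (s • v) = Q b v := hQ2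
  have hord : orderOf s0 = p := by
    rw [← h.ord, ← hs0]
    exact (orderOf_injective (tau e) (tau_injective e hF (by omega)) s0).symm
  have hp2 : p ≠ 2 := by
    have h1 := h.two
    have h3 := h.lt
    omega
  obtain ⟨c, k, hmc, hk, hcard, hp⟩ := fix_card hF h.prime hp2 hord
  have hle : ((mv Ω x)ᶜ).card ≤ 4 ^ c := by
    rcases (mv Ω x)ᶜ.eq_empty_or_nonempty with h0 | ⟨a, ha⟩
    · rw [h0, Finset.card_empty]
      exact Nat.zero_le _
    · rw [Finset.mem_compl, not_mem_mv] at ha
      have hrep : ∀ b : Ω, ∃ w, ∀ v, Q a v + Q b v = sympForm m F w v := by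
        intro b
        apply exists_repr hF (fun v => Q a v + Q b v)
        intro u v
        show Q a (u + v) + Q b (u + v) = _
        rw [hQ, hQ]
        have h3 : Q a u + Q a v + sympForm m F u v + (Q b u + Q b v + sympForm m F u v) =
            Q a u + Q b u + (Q a v + Q b v) + (sympForm m F u v + sympForm m F u v) := by ring
        rw [h3, F_add_self hF, add_zero]
      choose w hw using hrep
      rw [← hcard, ← Nat.card_eq_fintype_card (α := ↥((mv Ω x)ᶜ)) |>.trans (Fintype.card_coe _)]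
      have hfixw : ∀ b : ↥((mv Ω x)ᶜ), w b ∈ fixV s0 := by
        intro b
        have hb' := b.2
        rw [Finset.mem_compl, not_mem_mv] at hb'
        have hb : tau e s0 • (b : Ω) = b := by
          rw [hs0]
          exact hb'
        have ha' := ha
        rw [← hs0] at ha'
        rw [hQ2'] at hb ha'
        rw [mem_fixV]
        have h3 : s0⁻¹ • w b = w b := by
          apply eq_of_forall_sympForm_right
          intro v
          have h4 := form_smul s0 (s0⁻¹ • w b) v
          rw [smul_inv_smul] at h4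
          rw [← h4, ← hw, ← hw, hb, ha']
        rw [inv_smul_eq_iff] at h3
        exact h3.symm
      apply Nat.card_le_card_of_injective (fun b : ↥((mv Ω x)ᶜ) => (⟨w b, hfixw b⟩ : fixV s0))
      intro b c hbc
      have h3 : w b = w c := congrArg Subtype.val hbc
      apply Subtype.ext
      by_contra hne
      have h4 : ∀ v, Q b v = Q c v := by
        intro v
        have h5 := hw b v
        rw [h3, ← hw] at h5
        exact add_left_cancel h5
      have h5 : ∀ g : G, g • (b : Ω) = b → g • (c : Ω) = c := by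
        intro g hg
        obtain ⟨s, rfl⟩ := exists_tau e g (by rw [hT]; trivial)
        rw [hQ2'] at hg ⊢
        intro v
        rw [← h4, ← h4]
        exact hg v
      have hcard3 : 2 < Fintype.card Ω := by
        have h6 := h.card_add
        have h7 := Nat.mul_le_mul h.two (show 3 ≤ p by have := h.two; have := h.lt; omega)
        omega
      obtain ⟨d, hdb, hdc⟩ : ∃ d : Ω, d ≠ b ∧ d ≠ c := by
        by_contra hcon
        push Not at hcon
        have h6 : (Finset.univ : Finset Ω) ⊆ {(b : Ω), (c : Ω)} := by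
          intro d _
          rw [Finset.mem_insert, Finset.mem_singleton]
          by_cases h7 : d = b
          · exact Or.inl h7
          · exact Or.inr (hcon d h7)
        have h7 := Finset.card_le_card h6
        rw [Finset.card_univ] at h7
        have h8 := Finset.card_insert_le (b : Ω) {(c : Ω)}
        rw [Finset.card_singleton] at h8
        omega
      obtain ⟨g, hg1, hg2⟩ := (MulAction.is_two_pretransitive_iff.1 h2) hne (Ne.symm hdb)
      rw [h5 g hg1] at hg2
      exact hdc hg2.symm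
  have h5 := sp_arith hm hmc hk hp h.lt hn hle h.card_add
  have h6 : 4 ^ c ≤ 4 := by
    calc 4 ^ c ≤ 4 ^ 1 := Nat.pow_le_pow_right (by norm_num) h5
      _ = 4 := by norm_num
  have h7 := h.two
  omega

end Cfsg.Agent.H579.Pr
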