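import Cfsg.Agent.H579.Pr.Reg
import Cfsg.Agent.H579.Pr.Three
import Cfsg.Agent.H499.TTSmall
import Cfsg.Agent.H499.TTNormSmall
import Cfsg.Agent.NotCT.Orders
import Cfsg.Agent.H715.Fpr.MathData
import Cfsg.Agent.S2060
import Cfsg.Agent.S2061
import Cfsg.Agent.S2062
import Cfsg.Agent.S2063
import Cfsg.Agent.S2064
import Cfsg.Agent.S2071
import Cfsg.Agent.S2072

/-!
# Elements of prime order with few cycles in 2-transitive groups: the small and the sporadic rows (helper579)
-/

set_option autoImplicit false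
open Cfsg

namespace Cfsg.Agent.H579.Pr

open MulAction Subgroup Cfsg.Agent.H384.TwoTrans Finset

universe u v w

variable {G : Type u} {Ω : Type v} [Group G] [MulAction G Ω] {T : Subgroup G} [Fintype Ω] [DecidableEq Ω]

theorem Few.dvd_of_two [Finite G] (h2 : IsMultiplyPretransitive G Ω 2) {x : G} {p q : ℕ} (h : Few Ω x p q)
    (hf : 2 ≤ ((mv Ω x)ᶜ).card) : p * (Fintype.card Ω * (Fintype.card Ω - 1)) ∣ Nat.card G := by
  obtain ⟨a, ha, b, hb, hab⟩ := Finset.one_lt_card.1 (show 1 < ((mv Ω x)ᶜ).card by omega)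
  rw [mem_compl, not_mem_mv] at ha hb
  rw [← card_stab_two h2 hab]
  apply Nat.mul_dvd_mul_right
  rw [← h.ord]
  exact (stabilizer G a ⊓ stabilizer G b).orderOf_dvd_natCard ⟨ha, hb⟩

theorem Few.bad {x : G} {p q : ℕ} (h : Few Ω x p q) (hb : ¬ 2 * (((mv Ω x)ᶜ).card + 1) ≤ 5 * q) :
    5 ≤ ((mv Ω x)ᶜ).card ∧ q * (2 * p + 5) < 2 * (Fintype.card Ω + 1) := by
  have h1 := h.card_add
  have h2 := h.two
  have h3 : q * (2 * p + 5) = 2 * (q * p) + 5 * q := by ring
  refine ⟨by omega, ?_⟩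
  rw [h3]
  omega

theorem Few.bad_small {x : G} {p q : ℕ} (h : Few Ω x p q) (hb : ¬ 2 * (((mv Ω x)ᶜ).card + 1) ≤ 5 * q)
    (hn : Fintype.card Ω ≤ 24) : (p = 3 ∧ q = 2) ∨ (p = 5 ∧ q = 2 ∧ 15 ≤ Fintype.card Ω) ∨
      (p = 5 ∧ q = 3 ∧ 22 ≤ Fintype.card Ω) ∨ (p = 7 ∧ q = 2 ∧ 19 ≤ Fintype.card Ω) := by
  obtain ⟨-, h1⟩ := h.bad hb
  have h2 := h.two
  have h3 := h.lt
  have h4 := h.prime
  have hp : p ≤ 9 := by
    by_contra hc
    have h5 : 2 * 25 ≤ q * (2 * p + 5) := Nat.mul_le_mul h2 (by omega)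
    omega
  have hp3 : 3 ≤ p := by omega
  interval_cases p
  · left
    omega
  · exact absurd h4 (by norm_num)
  · interval_cases q <;> omega
  · exact absurd h4 (by norm_num)
  · interval_cases q <;> omega
  · exact absurd h4 (by norm_num)
  · exact absurd h4 (by norm_num)

/-- the centraliser of an element of the socle -/
theorem cent_bound (A : AS G Ω T) {S : Type w} [Group S] (e : ↥T ≃* S) {x : G} {p c i : ℕ} (hx : orderOf x = p)
    (hxT : x ∈ T) (hc : ∀ R : Subgroup S, Nat.card R = p → Nat.card (centralizer (R : Set S)) = c)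
    (hi : T.index ≤ i) : Nat.card (centralizer ({x} : Set G)) ≤ c * i := by
  have := A.finG
  have := A.normal
  have hfS : Finite S := Finite.of_equiv _ e.toEquiv
  have h1 := (T.subgroupOf (centralizer ({x} : Set G))).card_mul_index
  have h2 : T.relIndex (centralizer ({x} : Set G)) ≤ i :=
    (Nat.le_of_dvd (Nat.pos_of_ne_zero T.index_ne_zero_of_finite)
      (relIndex_dvd_index_of_normal T (centralizer ({x} : Set G)))).trans hi
  rw [← h1]
  refine Nat.mul_le_mul ?_ h2
  have h3 := hc (zpowers (e ⟨x, hxT⟩)) (by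
    rw [Nat.card_zpowers, MulEquiv.orderOf_eq, Subgroup.orderOf_mk, hx])
  rw [Cfsg.Agent.H715.Fpr.cent_zpowers'] at h3
  rw [← h3]
  apply Nat.card_le_card_of_injective (fun g : ↥(T.subgroupOf (centralizer ({x} : Set G))) =>
    (⟨e ⟨((g : ↥(centralizer ({x} : Set G))) : G), g.2⟩, by
      rw [mem_centralizer_singleton_iff]
      rw [← map_mul, ← map_mul]
      congr 1
      apply Subtype.ext
      exact mem_centralizer_singleton_iff.1 (g : ↥(centralizer ({x} : Set G))).2⟩ :
      ↥(centralizer ({e ⟨x, hxT⟩} : Set S))))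
  intro g g' hgg
  have h4 : e ⟨((g : ↥(centralizer ({x} : Set G))) : G), g.2⟩ = e ⟨((g' : ↥(centralizer ({x} : Set G))) : G), g'.2⟩ :=
    congrArg Subtype.val hgg
  have h5 := congrArg Subtype.val (e.injective h4)
  apply Subtype.ext
  apply Subtype.ext
  exact h5

/-- a minimality argument -/
theorem no_min [Finite G] [FaithfulSMul G Ω] (h2 : IsMultiplyPretransitive G Ω 2)
    (hA : ¬ alternatingGroup Ω ≤ (toPermHom G Ω).range) {M : ℕ} {x : G} (hx : x ≠ 1) (hM : (mv Ω x).card ≤ M)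
    (hkey : ∀ m ≤ M, Fintype.card Ω ≤ (m - 1) ^ 2 + 1 → (m - 3) * (Fintype.card Ω - m) ≤ 3 * (m - 1) ^ 2 → False) :
    False := by
  classical
  have := Fintype.ofFinite G
  obtain ⟨y, hy, hmin⟩ := Finset.exists_min_image (univ.filter fun z : G => z ≠ 1) (fun z => (mv Ω z).card)
    ⟨x, by rw [mem_filter]; exact ⟨mem_univ _, hx⟩⟩
  rw [mem_filter] at hy
  have hmin' : ∀ z : G, z ≠ 1 → (mv Ω y).card ≤ (mv Ω z).card := fun z hz =>
    hmin z (by rw [mem_filter]; exact ⟨mem_univ _, hz⟩)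
  exact hkey _ ((hmin' x hx).trans hM) (min_deg h2 hA hy.2) (bochert h2 hy.2 hmin')

theorem Few.ne_one {x : G} {p q : ℕ} (h : Few Ω x p q) : x ≠ 1 := by
  rintro rfl
  have h1 := h.ord
  rw [orderOf_one] at h1
  exact h.prime.one_lt.ne h1

theorem Few.three_le {x : G} {p q : ℕ} (h : Few Ω x p q) : 3 ≤ p := by
  have h1 := h.two
  have h2 := h.lt
  omega

/-! ### degree 11 -/

theorem row_eleven (A : AS G Ω T) (hA : ¬ alternatingGroup Ω ≤ (toPermHom G Ω).range) {x : G} {p q : ℕ}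
    (h : Few Ω x p q) (hn : Fintype.card Ω = 11) : 2 * (((mv Ω x)ᶜ).card + 1) ≤ 5 * q := by
  have := A.finG
  have := A.faithful
  by_contra hb
  have hord := h.ord
  have hcard := h.card
  rcases h.bad_small hb (by omega) with ⟨rfl, rfl⟩ | ⟨rfl, rfl, h1⟩ | ⟨rfl, rfl, h1⟩ | ⟨rfl, rfl, h1⟩
  · exact no_eleven A.two hA hn hord hcard
  · omega
  · omega
  · omega

/-! ### degree 12 -/

theorem sign_one {S : Type w} [Group S] [MulAction S Ω] [IsSimpleGroup S] (hna : ¬ IsMulCommutative S) (g : S) :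
    Equiv.Perm.sign (toPermHom S Ω g) = 1 := by
  let φ : S →* ℤˣ := Equiv.Perm.sign.comp (toPermHom S Ω)
  rcases (inferInstance : (φ.ker).Normal).eq_bot_or_eq_top with h1 | h1
  · exfalso
    apply hna
    refine ⟨⟨fun a b => ?_⟩⟩
    apply (MonoidHom.ker_eq_bot_iff φ).1 h1
    rw [map_mul, map_mul, mul_comm]
  · have h2 : g ∈ φ.ker := by
      rw [h1]
      trivial
    exact h2

theorem two_of_prime (A : AS G Ω T) {p : ℕ} (hp : p.Prime) (hn : Fintype.card Ω = p + 1)
    (hT : Nat.card T ≠ Fintype.card Ω) : IsMultiplyPretransitive ↥T Ω 2 := by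
  have := A.finG
  have := A.faithful
  have := A.normal
  have hG2 := A.two
  have hG1 : IsPretransitive G Ω := isPretransitive_of_is_two_pretransitive
  have hT1 : IsPretransitive ↥T Ω := A.transitive
  have key : ∀ c b d : Ω, b ≠ c → d ≠ c → ∃ t : ↥T, t • c = c ∧ t • b = d := by
    intro c b d hb hd
    have h1 : IsMultiplyPretransitive (stabilizer G c) (SubMulAction.ofStabilizer G c) 1 :=
      SubMulAction.ofStabilizer.isMultiplyPretransitive.1 hG2
    have h2 : IsPretransitive (stabilizer G c) (SubMulAction.ofStabilizer G c) := is_one_pretransitive_iff.1 h1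
    have h3 : IsPreprimitive (stabilizer G c) (SubMulAction.ofStabilizer G c) := by
      apply IsPreprimitive.of_prime_card
      rw [SubMulAction.nat_card_ofStabilizer_eq, Nat.card_eq_fintype_card, hn, Nat.add_sub_cancel]
      exact hp
    have h4 : IsPretransitive ↥(T.subgroupOf (stabilizer G c)) (SubMulAction.ofStabilizer G c) := by
      apply IsQuasiPreprimitive.isPretransitive_of_normal
      intro h5
      apply hT
      have h6 := Cfsg.Agent.H499.TT.NC.stab_card A c
      have h7 : T ⊓ stabilizer G c = ⊥ := by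
        rw [eq_bot_iff]
        rintro t ⟨ht, htc⟩
        rw [mem_bot]
        apply FaithfulSMul.eq_of_smul_eq_smul (α := Ω)
        intro z
        rw [one_smul]
        by_cases hz : z = c
        · rw [hz]
          exact htc
        · have h8 : (⟨z, hz⟩ : SubMulAction.ofStabilizer G c) ∈
              fixedPoints ↥(T.subgroupOf (stabilizer G c)) (SubMulAction.ofStabilizer G c) := by
            rw [h5]
            trivial
          have h9 := h8 ⟨⟨t, htc⟩, ht⟩
          exact congrArg Subtype.val h9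
      rw [h6, h7, Subgroup.card_bot, mul_one, Nat.card_eq_fintype_card]
    obtain ⟨t, ht⟩ := h4.exists_smul_eq ⟨b, hb⟩ ⟨d, hd⟩
    refine ⟨⟨((t : stabilizer G c) : G), t.2⟩, (t : stabilizer G c).2, ?_⟩
    exact congrArg Subtype.val ht
  rw [is_two_pretransitive_iff]
  intro a b c d hab hcd
  obtain ⟨t, ht⟩ := hT1.exists_smul_eq a c
  have h1 : t • b ≠ c := by
    intro h2
    apply hab
    rw [← ht] at h2
    exact (smul_left_cancel t h2).symm
  obtain ⟨s, hs1, hs2⟩ := key c (t • b) d h1 (Ne.symm hcd)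
  refine ⟨s * t, ?_, ?_⟩
  · rw [mul_smul, ht, hs1]
  · rw [mul_smul, hs2]

theorem row_twelve (A : AS G Ω T) (hA : ¬ alternatingGroup Ω ≤ (toPermHom G Ω).range) {x : G} {p q : ℕ}
    (h : Few Ω x p q) (hn : Fintype.card Ω = 12) {S : Type w} [Group S] (e : ↥T ≃* S)
    (hT : Nat.card T = 7920 ∨ Nat.card T = 95040) (ho : Nat.card (Cfsg.Out S) ∣ 2) :
    2 * (((mv Ω x)ᶜ).card + 1) ≤ 5 * q := by
  have := A.finG
  have := A.faithful
  have := A.simple
  by_contra hb
  have hord := h.ord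
  have hcard := h.card
  rcases h.bad_small hb (by omega) with ⟨rfl, rfl⟩ | ⟨rfl, rfl, h1⟩ | ⟨rfl, rfl, h1⟩ | ⟨rfl, rfl, h1⟩
  · have hxT : x ∈ T := by
      apply Cfsg.Agent.H499.TT.mem_of_coprime A e
      rw [hord]
      exact Nat.Coprime.coprime_dvd_right ho (by norm_num)
    have hT2 : IsMultiplyPretransitive ↥T Ω 2 := two_of_prime A (p := 11) (by norm_num) (by omega) (by
      rcases hT with h1 | h1 <;> omega)
    refine no_twelve (G := ↥T) hT2 ?_ hn (fun g => sign_one A.nonab g) hT (x := ⟨x, hxT⟩) ?_ ?_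
    · intro h1
      apply hA
      refine h1.trans ?_
      rintro _ ⟨t, rfl⟩
      exact ⟨t, rfl⟩
    · rw [Subgroup.orderOf_mk, hord]
    · exact hcard
  · omega
  · omega
  · omega

/-! ### degree 15 -/

theorem row_fifteen (A : AS G Ω T) {x : G} {p q : ℕ} (h : Few Ω x p q) (hn : Fintype.card Ω = 15)
    (hG : Nat.card G = 2520 ∨ Nat.card G = 5040) : 2 * (((mv Ω x)ᶜ).card + 1) ≤ 5 * q := by
  have := A.finG
  by_contra hb
  have hord := h.ord
  have hcard := h.card
  have hd := h.dvd_of_two A.two (by have := (h.bad hb).1; omega)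
  rw [hn] at hd
  rcases h.bad_small hb (by omega) with ⟨rfl, rfl⟩ | ⟨rfl, rfl, h1⟩ | ⟨rfl, rfl, h1⟩ | ⟨rfl, rfl, h1⟩
  · exact no_fifteen A.two hn hG hord hcard
  · rcases hG with hG | hG <;> rw [hG] at hd <;> revert hd <;> decide
  · omega
  · omega

/-! ### degrees 22, 23, 24 -/

theorem row_m22 (A : AS G Ω T) (hA : ¬ alternatingGroup Ω ≤ (toPermHom G Ω).range) {x : G} {p q : ℕ}
    (h : Few Ω x p q) (hn : Fintype.card Ω = 22) (hM : Spor.IsoM22 ↥T) :
    2 * (((mv Ω x)ᶜ).card + 1) ≤ 5 * q := by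
  have := A.finG
  have := Fintype.ofFinite G
  have := A.faithful
  have hc := Cfsg.Agent.NotCT.Orders.m22 hM
  obtain ⟨e⟩ := hM
  have hi := Cfsg.Agent.H499.TT.index_dvd_out A e
  rw [Cfsg.Agent.S2062.result] at hi
  have hi' := Nat.le_of_dvd (by norm_num) hi
  have hG := T.card_mul_index
  rw [hc] at hG
  by_contra hb
  have hord := h.ord
  have hcard := h.card
  have hadd := h.card_add
  have hd := h.dvd_of_two A.two (by have := (h.bad hb).1; omega)
  rw [hn] at hd hadd
  have hce := cent_le A.two x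
  have h5 : p = 5 → Nat.card (centralizer ({x} : Set G)) ≤ 5 * 2 := by
    intro hp
    apply cent_bound A e (p := 5) (by rw [hord, hp]) ?_ (fun R hR => (Cfsg.Agent.H715.Fpr.MathData.cn22_5 hR).1) hi'
    apply Cfsg.Agent.H499.TT.mem_of_coprime A e
    rw [hord, hp, Cfsg.Agent.S2062.result]
    norm_num
  rcases h.bad_small hb (by omega) with ⟨rfl, rfl⟩ | ⟨rfl, rfl, h1⟩ | ⟨rfl, rfl, h1⟩ | ⟨rfl, rfl, h1⟩
  · exact three_two A.two hA hord hcard (by omega)
  · have h6 : ((mv Ω x)ᶜ).card = 12 := by omega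
    rw [h6] at hce
    have := h5 rfl
    omega
  · have h6 : ((mv Ω x)ᶜ).card = 7 := by omega
    rw [h6] at hce
    have := h5 rfl
    omega
  · rw [← hG] at hd
    have hi0 : 1 ≤ T.index := Nat.pos_of_ne_zero T.index_ne_zero_of_finite
    generalize T.index = i at hd hi' hi0
    interval_cases i <;> revert hd <;> decide

theorem row_m23 (A : AS G Ω T) (hA : ¬ alternatingGroup Ω ≤ (toPermHom G Ω).range) {x : G} {p q : ℕ}
    (h : Few Ω x p q) (hn : Fintype.card Ω = 23) (hM : Spor.IsoM23 ↥T) :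
    2 * (((mv Ω x)ᶜ).card + 1) ≤ 5 * q := by
  have := A.finG
  have := Fintype.ofFinite G
  have := A.faithful
  obtain ⟨e⟩ := hM
  have hT := Cfsg.Agent.H499.TT.eq_top A e Cfsg.Agent.S2063.result
  have hxT : x ∈ T := by
    rw [hT]
    trivial
  have hi : T.index ≤ 1 := by
    rw [hT, Subgroup.index_top]
  by_contra hb
  have hord := h.ord
  have hcard := h.card
  have hadd := h.card_add
  rw [hn] at hadd
  have hce := cent_le A.two x
  have h5 : p = 5 → Nat.card (centralizer ({x} : Set G)) ≤ 15 * 1 := by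
    intro hp
    exact cent_bound A e (p := 5) (by rw [hord, hp]) hxT (fun R hR => (Cfsg.Agent.H715.Fpr.MathData.cn23_5 hR).1) hi
  have h7 : p = 7 → Nat.card (centralizer ({x} : Set G)) ≤ 14 * 1 := by
    intro hp
    exact cent_bound A e (p := 7) (by rw [hord, hp]) hxT (fun R hR => (Cfsg.Agent.H715.Fpr.MathData.cn23_7 hR).1) hi
  rcases h.bad_small hb (by omega) with ⟨rfl, rfl⟩ | ⟨rfl, rfl, h1⟩ | ⟨rfl, rfl, h1⟩ | ⟨rfl, rfl, h1⟩
  · exact three_two A.two hA hord hcard (by omega)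
  · have h6 : ((mv Ω x)ᶜ).card = 13 := by omega
    rw [h6] at hce
    have := h5 rfl
    omega
  · have h6 : ((mv Ω x)ᶜ).card = 8 := by omega
    rw [h6] at hce
    have := h5 rfl
    omega
  · have h6 : ((mv Ω x)ᶜ).card = 9 := by omega
    rw [h6] at hce
    have := h7 rfl
    omega

theorem row_m24 (A : AS G Ω T) (hA : ¬ alternatingGroup Ω ≤ (toPermHom G Ω).range) {x : G} {p q : ℕ}
    (h : Few Ω x p q) (hn : Fintype.card Ω = 24) (hM : Spor.IsoM24 ↥T) :
    2 * (((mv Ω x)ᶜ).card + 1) ≤ 5 * q := by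
  have := A.finG
  have := Fintype.ofFinite G
  have := A.faithful
  obtain ⟨e⟩ := hM
  have hT := Cfsg.Agent.H499.TT.eq_top A e Cfsg.Agent.S2064.result
  have hxT : x ∈ T := by
    rw [hT]
    trivial
  have hi : T.index ≤ 1 := by
    rw [hT, Subgroup.index_top]
  by_contra hb
  have hord := h.ord
  have hcard := h.card
  have hadd := h.card_add
  rw [hn] at hadd
  have hce := cent_le A.two x
  have h5 : p = 5 → Nat.card (centralizer ({x} : Set G)) ≤ 60 * 1 := by
    intro hp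
    exact cent_bound A e (p := 5) (by rw [hord, hp]) hxT (fun R hR => (Cfsg.Agent.H715.Fpr.MathData.cn24_5 hR).1) hi
  have h7 : p = 7 → Nat.card (centralizer ({x} : Set G)) ≤ 42 * 1 := by
    intro hp
    exact cent_bound A e (p := 7) (by rw [hord, hp]) hxT (fun R hR => (Cfsg.Agent.H715.Fpr.MathData.cn24_7 hR).1) hi
  rcases h.bad_small hb (by omega) with ⟨rfl, rfl⟩ | ⟨rfl, rfl, h1⟩ | ⟨rfl, rfl, h1⟩ | ⟨rfl, rfl, h1⟩
  · exact three_two A.two hA hord hcard (by omega)
  · have h6 : ((mv Ω x)ᶜ).card = 14 := by omega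
    rw [h6] at hce
    have := h5 rfl
    omega
  · have h6 : ((mv Ω x)ᶜ).card = 9 := by omega
    rw [h6] at hce
    have := h5 rfl
    omega
  · have h6 : ((mv Ω x)ᶜ).card = 10 := by omega
    rw [h6] at hce
    have := h7 rfl
    omega

/-! ### `PSL₂(8)` on 28 points -/

theorem row_psl28 (A : AS G Ω T) {x : G} {p q : ℕ} (h : Few Ω x p q) (hn : Fintype.card Ω = 28) {F : Type w}
    [Field F] [Fintype F] (hF : Fintype.card F = 8) (e : ↥T ≃* Matrix.ProjectiveSpecialLinearGroup (Fin 2) F) :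
    2 * (((mv Ω x)ᶜ).card + 1) ≤ 5 * q := by
  have := A.finG
  by_contra hb
  have hd := h.dvd_of_two A.two (by have := (h.bad hb).1; omega)
  have hi := Cfsg.Agent.H499.TT.index_dvd_out A e
  rw [Cfsg.Agent.H499.TT.card_out_psl2 (p := 2) (f := 3) (by norm_num) (by norm_num) (by rw [hF]; norm_num)
    (by norm_num)] at hi
  have hi' : T.index ∣ 3 := hi
  have hG := Cfsg.Agent.H499.TT.card_eq A e
  rw [Cfsg.Agent.H499.TT.card_psl2 hF] at hG
  have h504 : 8 * (8 ^ 2 - 1) / Nat.gcd 2 (8 - 1) = 504 := by decide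
  rw [h504] at hG
  rw [hn, hG] at hd
  have h3 := h.three_le
  rcases (Nat.dvd_prime Nat.prime_three).1 hi' with h4 | h4
  · rw [h4] at hd
    have := Nat.le_of_dvd (by norm_num) hd
    omega
  · rw [h4] at hd
    have := Nat.le_of_dvd (by norm_num) hd
    omega

/-! ### `HS` and `Co₃` -/

theorem row_hs (A : AS G Ω T) (hA : ¬ alternatingGroup Ω ≤ (toPermHom G Ω).range) {x : G} {p q : ℕ}
    (h : Few Ω x p q) (hn : Fintype.card Ω = 176) (hM : Spor.IsoHS ↥T) :
    2 * (((mv Ω x)ᶜ).card + 1) ≤ 5 * q := by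
  have := A.finG
  have := A.faithful
  have hc := Cfsg.Agent.NotCT.Orders.hs hM
  obtain ⟨e⟩ := hM
  have hi := Cfsg.Agent.H499.TT.index_dvd_out A e
  rw [Cfsg.Agent.S2072.result] at hi
  have hG := T.card_mul_index
  rw [hc] at hG
  by_contra hb
  have hd := h.dvd_of_two A.two (by have := (h.bad hb).1; omega)
  rw [hn, ← hG] at hd
  have h1 : p * (176 * (176 - 1)) ∣ 2880 * (176 * (176 - 1)) := by
    refine hd.trans ?_
    have h2 : 2880 * (176 * (176 - 1)) = 44352000 * 2 := by norm_num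
    rw [h2]
    exact Nat.mul_dvd_mul_left _ hi
  have h2 : p ∣ 2880 := Nat.dvd_of_mul_dvd_mul_right (by norm_num) h1
  have h3 := h.three_le
  have hpr := h.prime
  have h5 : p ≤ 5 := by
    have h6 : (2880 : ℕ) = 2 ^ 6 * (3 ^ 2 * 5) := by norm_num
    rw [h6] at h2
    rcases hpr.dvd_mul.1 h2 with h7 | h7
    · have := Nat.le_of_dvd (by norm_num) (hpr.dvd_of_dvd_pow h7)
      omega
    · rcases hpr.dvd_mul.1 h7 with h7 | h7
      · have := Nat.le_of_dvd (by norm_num) (hpr.dvd_of_dvd_pow h7)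
        omega
      · exact Nat.le_of_dvd (by norm_num) h7
  have h6 : (mv Ω x).card ≤ 20 := by
    rw [h.card]
    have h7 := h.lt
    exact (Nat.mul_le_mul (show q ≤ 4 by omega) h5)
  refine no_min A.two hA h.ne_one h6 ?_
  intro m hm h7 h8
  rw [hn] at h7 h8
  interval_cases m <;> omega

theorem row_co3 (A : AS G Ω T) (hA : ¬ alternatingGroup Ω ≤ (toPermHom G Ω).range) {x : G} {p q : ℕ}
    (h : Few Ω x p q) (hn : Fintype.card Ω = 276) (hM : Spor.IsoCo3 ↥T) :
    2 * (((mv Ω x)ᶜ).card + 1) ≤ 5 * q := by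
  have := A.finG
  have := A.faithful
  have hc := Cfsg.Agent.NotCT.Orders.co3 hM
  obtain ⟨e⟩ := hM
  have hi := Cfsg.Agent.H499.TT.index_dvd_out A e
  rw [Cfsg.Agent.S2071.result] at hi
  have hG := T.card_mul_index
  rw [hc] at hG
  by_contra hb
  have hd := h.dvd_of_two A.two (by have := (h.bad hb).1; omega)
  rw [hn, ← hG] at hd
  have h1 : p * (276 * (276 - 1)) ∣ 6531840 * (276 * (276 - 1)) := by
    refine hd.trans ?_
    have h2 : 6531840 * (276 * (276 - 1)) = 495766656000 * 1 := by norm_num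
    rw [h2]
    exact Nat.mul_dvd_mul_left _ hi
  have h2 : p ∣ 6531840 := Nat.dvd_of_mul_dvd_mul_right (by norm_num) h1
  have h3 := h.three_le
  have hpr := h.prime
  have h5 : p ≤ 7 := by
    have h6 : (6531840 : ℕ) = 2 ^ 8 * (3 ^ 6 * (5 * 7)) := by norm_num
    rw [h6] at h2
    rcases hpr.dvd_mul.1 h2 with h7 | h7
    · have := Nat.le_of_dvd (by norm_num) (hpr.dvd_of_dvd_pow h7)
      omega
    · rcases hpr.dvd_mul.1 h7 with h7 | h7
      · have := Nat.le_of_dvd (by norm_num) (hpr.dvd_of_dvd_pow h7)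
        omega
      · rcases hpr.dvd_mul.1 h7 with h7 | h7
        · have := Nat.le_of_dvd (by norm_num) h7
          omega
        · exact Nat.le_of_dvd (by norm_num) h7
  have h6 : (mv Ω x).card ≤ 42 := by
    rw [h.card]
    have h7 := h.lt
    exact (Nat.mul_le_mul (show q ≤ 6 by omega) h5)
  refine no_min A.two hA h.ne_one h6 ?_
  intro m hm h7 h8
  rw [hn] at h7 h8
  interval_cases m <;> omega

end Cfsg.Agent.H579.Pr
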