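import Cfsg.Agent.H579.Pr.Psl
import Cfsg.Agent.H579.Pr.Sp
import Cfsg.Agent.H579.Pr.Spor
import Cfsg.Agent.S2119

/-!
# Elements of prime order with few cycles in 2-transitive groups: the rows (helper579)
-/

set_option autoImplicit false
open Cfsg

namespace Cfsg.Agent.H579.Pr

open MulAction Subgroup Cfsg.Agent.H384.TwoTrans Finset

universe u v w

section

variable {G : Type u} {Ω : Type v} [Group G] [MulAction G Ω] {T : Subgroup G} [Fintype Ω] [DecidableEq Ω]

theorem as_rows (A : AS G Ω T) (hK : Known2 ↥T (Nat.card Ω)) {x : G} {p q : ℕ} (h : Few Ω x p q) :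
    2 * (((mv Ω x)ᶜ).card + 1) ≤ 5 * q ∨ alternatingGroup Ω ≤ (toPermHom G Ω).range := by
  have := A.finG
  by_cases hA : alternatingGroup Ω ≤ (toPermHom G Ω).range
  · exact Or.inr hA
  left
  generalize hn : Nat.card Ω = n at hK
  have hn1 : Fintype.card Ω = n := by rw [← Nat.card_eq_fintype_card, hn]
  cases hK with
  | alt n h5 e =>
    obtain ⟨e⟩ := e
    exact absurd (Cfsg.Agent.H499.TT.alt_le_range A (by
      rw [hn, Nat.card_congr e.toEquiv, Cfsg.Agent.H499.TT.card_alt h5])) hA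
  | psl F d n hd hd2 e hn' =>
    obtain ⟨e⟩ := e
    rcases Nat.lt_or_ge 2 d with h3 | h3
    · exact psl_row A (F := F) h3 e (by rw [hn1]; exact hn') h
    · obtain rfl : d = 2 := by omega
      have h4 := hd2 rfl
      have hnq : n = Fintype.card F + 1 := by
        have h5 : Fintype.card F ^ 2 - 1 = (Fintype.card F + 1) * (Fintype.card F - 1) := by
          have := Nat.sq_sub_sq (Fintype.card F) 1
          rwa [one_pow] at this
        rw [h5] at hn'
        exact Nat.eq_of_mul_eq_mul_right (by omega) hn'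
      exact psl2_row A h h4 e (by rw [hn1, hnq])
  | sp F m n hF hm e hn' =>
    obtain ⟨e⟩ := e
    exact sp_row A h hF hm e (by rw [hn1]; exact hn')
  | psu F r n hr hF e hn' =>
    obtain ⟨e⟩ := e
    exact psu_row A h hr hF e (by rw [hn1, hn'])
  | sz F m n hm hF e hn' =>
    obtain ⟨e⟩ := e
    exact sz_row A h hm hF e (by rw [hn1, hn'])
  | ree K m n hm hK e hn' =>
    obtain ⟨e⟩ := e
    exact ree_row A h hm hK e (by rw [hn1, hn'])
  | psl2_8 F hF e =>
    obtain ⟨e⟩ := e
    exact row_psl28 A h hn1 hF e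
  | psl2_9 F hF e =>
    obtain ⟨e⟩ := e
    refine absurd (Cfsg.Agent.H499.TT.alt_le_range A ?_) hA
    rw [hn, Nat.card_congr e.toEquiv, Cfsg.Agent.H499.TT.card_psl2 hF]
    decide
  | psl2_11 F hF e => exact row_eleven A hA h hn1
  | psl4_2 F hF e =>
    obtain ⟨e⟩ := e
    refine absurd (Cfsg.Agent.H499.TT.alt_le_range A ?_) hA
    rw [hn, Nat.card_congr e.toEquiv, Cfsg.Agent.H499.TT.card_psl4_2 hF]
    decide
  | a7 e =>
    obtain ⟨e⟩ := e
    apply row_fifteen A h hn1
    have h1 := Cfsg.Agent.H499.TT.card_alt (n := 7) (by norm_num)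
    have h2 : (7 : ℕ).factorial = 5040 := rfl
    rw [h2] at h1
    have h3 := Cfsg.Agent.H499.TT.card_eq A e
    have h5 : Nat.card (MulAut ↥(alternatingGroup (Fin 7))) = 2 * Nat.card ↥(alternatingGroup (Fin 7)) := by
      rw [← Nat.card_congr (Equiv.ofBijective _ (Cfsg.Agent.S2119.result 7 (by norm_num) (by norm_num)))]
      rw [Nat.card_perm, Nat.card_fin]
      exact h1.symm
    have h4 := Cfsg.Agent.H499.TT.index_dvd_aut A e h5
    rcases (Nat.dvd_prime Nat.prime_two).1 h4 with h6 | h6 <;> rw [h6] at h3 <;> omega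
  | m11 h11 => exact row_eleven A hA h hn1
  | m11' h11 =>
    have h1 := Cfsg.Agent.NotCT.Orders.m11 h11
    obtain ⟨e⟩ := h11
    exact row_twelve A hA h hn1 e (Or.inl h1) (by rw [Cfsg.Agent.S2060.result]; norm_num)
  | m12 h12 =>
    have h1 := Cfsg.Agent.NotCT.Orders.m12 h12
    obtain ⟨e⟩ := h12
    exact row_twelve A hA h hn1 e (Or.inr h1) (by rw [Cfsg.Agent.S2061.result])
  | m22 hM => exact row_m22 A hA h hn1 hM
  | m23 hM => exact row_m23 A hA h hn1 hM
  | m24 hM => exact row_m24 A hA h hn1 hM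
  | hs hM => exact row_hs A hA h hn1 hM
  | co3 hM => exact row_co3 A hA h hn1 hM

end

end Cfsg.Agent.H579.Pr
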