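import Cfsg.Agent.H579.Pr.Avg

/-!
# 2-transitive groups: small supports (helper579)

* `alt_of_small` : a non-trivial element moving at most 3 points forces the alternating group;
* `min_deg` : otherwise every non-trivial element `x` satisfies `n - 1 ≤ (|supp x| - 1) ^ 2`;
* `bochert` : the minimal degree `m` satisfies `(m - 3) (n - m) ≤ 3 (m - 1) ^ 2`;
* `three_two` : no elements of order 3 with two cycles if `n ≥ 22`.
-/

set_option autoImplicit false

namespace Cfsg.Agent.H579.Pr

open MulAction Finset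

universe u v

variable {G : Type u} {Ω : Type v} [Group G] [MulAction G Ω] [Fintype Ω] [DecidableEq Ω]

variable (Ω) in
/-- the moved points -/
def mv (x : G) : Finset Ω := univ.filter fun a => x • a ≠ a

theorem mem_mv {x : G} {a : Ω} : a ∈ mv Ω x ↔ x • a ≠ a := by simp [mv]

theorem not_mem_mv {x : G} {a : Ω} : a ∉ mv Ω x ↔ x • a = a := by simp [mv]

theorem mem_mv_inv {x : G} {a : Ω} : a ∈ mv Ω x⁻¹ ↔ a ∈ mv Ω x := by
  rw [mem_mv, mem_mv, Ne, inv_smul_eq_iff, eq_comm]

theorem smul_mem_mv {x : G} {a : Ω} : x • a ∈ mv Ω x ↔ a ∈ mv Ω x := by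
  rw [mem_mv, mem_mv, Ne, smul_left_cancel_iff]

theorem inv_smul_mem_mv {x : G} {a : Ω} : x⁻¹ • a ∈ mv Ω x ↔ a ∈ mv Ω x := by
  rw [← mem_mv_inv, smul_mem_mv, mem_mv_inv]

theorem mem_mv_conj {h x : G} {a : Ω} : a ∈ mv Ω (h⁻¹ * x * h) ↔ h • a ∈ mv Ω x := by
  rw [mem_mv, mem_mv, mul_smul, mul_smul, Ne, inv_smul_eq_iff]

theorem mv_comm_subset (x y : G) : mv Ω (x * y * x⁻¹ * y⁻¹) ⊆
    (mv Ω x ∩ mv Ω y) ∪ (mv Ω x ∩ mv Ω y).image (x • ·) ∪ (mv Ω x ∩ mv Ω y).image (y • ·) := by
  intro w hw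
  rw [mem_mv, mul_smul, mul_smul, mul_smul] at hw
  rw [mem_union, mem_union, mem_image, mem_image]
  by_cases h1 : y⁻¹ • w = w
  · have hyw : y • w = w := by rw [inv_smul_eq_iff] at h1; exact h1.symm
    rw [h1] at hw
    have h2 : x⁻¹ • w ∈ mv Ω y := by
      rw [mem_mv]
      intro hc
      rw [hc, smul_inv_smul] at hw
      exact hw rfl
    have h3 : x⁻¹ • w ∈ mv Ω x := by
      by_contra hc
      rw [not_mem_mv, smul_inv_smul] at hc
      rw [← hc, mem_mv] at h2
      exact h2 hyw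
    exact Or.inl (Or.inr ⟨_, mem_inter.2 ⟨h3, h2⟩, smul_inv_smul x w⟩)
  · have h2 : w ∈ mv Ω y := by rw [← mem_mv_inv, mem_mv]; exact h1
    by_cases h3 : w ∈ mv Ω x
    · exact Or.inl (Or.inl (mem_inter.2 ⟨h3, h2⟩))
    · rw [not_mem_mv] at h3
      right
      refine ⟨y⁻¹ • w, mem_inter.2 ⟨?_, inv_smul_mem_mv.2 h2⟩, smul_inv_smul y w⟩
      rw [← mem_mv_inv, mem_mv]
      intro hc
      rw [hc, smul_inv_smul, h3] at hw
      exact hw rfl

theorem card_mv_comm_le (x y : G) : #(mv Ω (x * y * x⁻¹ * y⁻¹)) ≤ 3 * #(mv Ω x ∩ mv Ω y) := by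
  refine (card_le_card (mv_comm_subset x y)).trans ((card_union_le _ _).trans ?_)
  have h1 := card_union_le (mv Ω x ∩ mv Ω y) ((mv Ω x ∩ mv Ω y).image (x • ·))
  have h2 : #((mv Ω x ∩ mv Ω y).image (x • ·)) ≤ #(mv Ω x ∩ mv Ω y) := card_image_le
  have h3 : #((mv Ω x ∩ mv Ω y).image (y • ·)) ≤ #(mv Ω x ∩ mv Ω y) := card_image_le
  omega

theorem ne_one_of_mem {x : G} {a : Ω} (h : a ∈ mv Ω x) : x ≠ 1 := by
  rintro rfl
  rw [mem_mv] at h
  exact h (one_smul _ _)

theorem mv_nonempty [FaithfulSMul G Ω] {x : G} (h : x ≠ 1) : (mv Ω x).Nonempty := by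
  by_contra hc
  rw [not_nonempty_iff_eq_empty] at hc
  apply h
  apply FaithfulSMul.eq_of_smul_eq_smul (α := Ω)
  intro a
  have : a ∉ mv Ω x := by rw [hc]; exact notMem_empty a
  rw [not_mem_mv.1 this, one_smul]

theorem support_eq (x : G) : (toPermHom G Ω x).support = mv Ω x := by
  ext a
  rw [Equiv.Perm.mem_support, mem_mv]
  rfl

theorem two_range (h2 : IsMultiplyPretransitive G Ω 2) :
    IsMultiplyPretransitive (toPermHom G Ω).range Ω 2 := by
  rw [is_two_pretransitive_iff]
  intro a b c d hab hcd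
  obtain ⟨g, h1, h3⟩ := is_two_pretransitive_iff.1 h2 hab hcd
  exact ⟨⟨toPermHom G Ω g, g, rfl⟩, h1, h3⟩

/-- **Jordan** -/
theorem alt_of_small [FaithfulSMul G Ω] (h2 : IsMultiplyPretransitive G Ω 2) {z : G} (hz : z ≠ 1)
    (h3 : #(mv Ω z) ≤ 3) : alternatingGroup Ω ≤ (toPermHom G Ω).range := by
  have hp : IsPreprimitive (toPermHom G Ω).range Ω := isPreprimitive_of_is_two_pretransitive (two_range h2)
  have h1 : toPermHom G Ω z ≠ 1 := by
    intro hc
    apply hz
    apply FaithfulSMul.eq_of_smul_eq_smul (α := Ω)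
    intro a
    rw [one_smul]
    exact DFunLike.congr_fun hc a
  have h4 := Equiv.Perm.two_le_card_support_of_ne_one h1
  rw [support_eq] at h4
  rcases Nat.lt_or_ge (#(mv Ω z)) 3 with h5 | h5
  · have h6 : (toPermHom G Ω z).IsSwap := by
      rw [← Equiv.Perm.card_support_eq_two, support_eq]
      omega
    rw [Equiv.Perm.subgroup_eq_top_of_isPreprimitive_of_isSwap_mem hp _ h6 ⟨z, rfl⟩]
    exact le_top
  · have h6 : (toPermHom G Ω z).IsThreeCycle := by
      rw [← card_support_eq_three_iff, support_eq]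
      omega
    exact Equiv.Perm.alternatingGroup_le_of_isPreprimitive_of_isThreeCycle_mem hp h6 ⟨z, rfl⟩

section

variable [Fintype G]

/-- the points of `S` whose image under `h` is in `S` -/
def ii (S : Finset Ω) (h : G) : Finset Ω := S.filter fun a => h • a ∈ S

omit [Fintype G] in
theorem ii_mv (x h : G) : ii (mv Ω x) h = mv Ω x ∩ mv Ω (h⁻¹ * x * h) := by
  ext a
  rw [ii, mem_filter, mem_inter, mem_mv_conj]

theorem sum_ii [IsPretransitive G Ω] (S : Finset Ω) :
    (∑ h : G, #(ii S h)) * Fintype.card Ω = Fintype.card G * (#S * #S) := sum_points S S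

theorem sum_ii_two (h2 : IsMultiplyPretransitive G Ω 2) (S : Finset Ω) :
    (∑ h : G, #(ii S h) * (#(ii S h) - 1)) * (Fintype.card Ω * (Fintype.card Ω - 1)) =
      Fintype.card G * ((#S * (#S - 1)) * (#S * (#S - 1))) := by
  have h1 := sum_pairs h2 S.offDiag S.offDiag (fun z hz => (mem_offDiag.1 hz).2.2)
    (fun z hz => (mem_offDiag.1 hz).2.2)
  have h3 : ∀ h : G, #{z ∈ S.offDiag | (h • z.1, h • z.2) ∈ S.offDiag} = #(ii S h) * (#(ii S h) - 1) := by
    intro h
    rw [Nat.mul_sub_one, ← offDiag_card]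
    congr 1
    ext z
    rw [mem_filter, mem_offDiag, mem_offDiag, mem_offDiag, ii, mem_filter, mem_filter]
    constructor
    · rintro ⟨⟨h4, h5, h6⟩, h7, h8, -⟩
      exact ⟨⟨h4, h7⟩, ⟨h5, h8⟩, h6⟩
    · rintro ⟨⟨h4, h7⟩, ⟨h5, h8⟩, h6⟩
      exact ⟨⟨h4, h5, h6⟩, h7, h8, fun hc => h6 (smul_left_cancel h hc)⟩
  rw [Finset.sum_congr rfl fun h _ => h3 h, offDiag_card, ← Nat.mul_sub_one] at h1
  exact h1

/-- **The minimal degree, first bound.** -/
theorem min_deg [FaithfulSMul G Ω] (h2 : IsMultiplyPretransitive G Ω 2)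
    (hA : ¬ alternatingGroup Ω ≤ (toPermHom G Ω).range) {x : G} (hx : x ≠ 1) :
    Fintype.card Ω ≤ (#(mv Ω x) - 1) ^ 2 + 1 := by
  have htr : IsPretransitive G Ω := isPretransitive_of_is_two_pretransitive
  set S := mv Ω x with hS
  have hpos : 0 < #S := (mv_nonempty hx).card_pos
  have hne : ∀ h : G, #(ii S h) ≠ 1 := by
    intro h h1
    apply hA
    rw [hS, ii_mv] at h1
    obtain ⟨a, ha⟩ := card_eq_one.1 h1
    have haJ : a ∈ mv Ω x ∩ mv Ω (h⁻¹ * x * h) := by rw [ha]; exact mem_singleton_self a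
    rw [mem_inter] at haJ
    refine alt_of_small h2 (z := x * (h⁻¹ * x * h) * x⁻¹ * (h⁻¹ * x * h)⁻¹) ?_ ?_
    · intro hc
      have h3 : x * (h⁻¹ * x * h) = (h⁻¹ * x * h) * x := by
        rw [mul_inv_eq_one, mul_inv_eq_iff_eq_mul] at hc
        exact hc
      have h4 : x • a ∈ mv Ω x ∩ mv Ω (h⁻¹ * x * h) := by
        rw [mem_inter]
        refine ⟨smul_mem_mv.2 haJ.1, ?_⟩
        rw [mem_mv, ← mul_smul, ← h3, mul_smul, Ne, smul_left_cancel_iff]
        exact mem_mv.1 haJ.2
      rw [ha, mem_singleton] at h4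
      exact (mem_mv.1 haJ.1) h4
    · have h3 := card_mv_comm_le (Ω := Ω) x (h⁻¹ * x * h)
      rw [h1] at h3
      exact h3
  have h3 := sum_ii (G := G) S
  have h4 := sum_ii_two h2 S (G := G)
  have h5 : ∑ h : G, #(ii S h) ≤ ∑ h : G, #(ii S h) * (#(ii S h) - 1) := by
    apply Finset.sum_le_sum
    intro h _
    have h6 := hne h
    rcases Nat.eq_zero_or_pos (#(ii S h)) with h7 | h7
    · rw [h7]
    · exact Nat.le_mul_of_pos_right _ (by omega)
  have hG : 0 < Fintype.card G := Fintype.card_pos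
  have h6 : Fintype.card G * (#S * #S) * (Fintype.card Ω - 1) ≤
      Fintype.card G * ((#S * (#S - 1)) * (#S * (#S - 1))) := by
    rw [← h3, ← h4]
    calc _ = (∑ h : G, #(ii S h)) * (Fintype.card Ω * (Fintype.card Ω - 1)) := by ring
      _ ≤ _ := Nat.mul_le_mul_right _ h5
  have h7 : Fintype.card Ω - 1 ≤ (#S - 1) ^ 2 := by
    apply Nat.le_of_mul_le_mul_left _ (Nat.mul_pos hG (Nat.mul_pos hpos hpos))
    calc _ ≤ _ := h6
      _ = _ := by ring
  omega

/-- an element `y` and `x` with `x • J ⊄ J` do not commute -/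
theorem comm_ne {x y : G} {a : Ω} (ha : a ∈ mv Ω y) (hb : x • a ∉ mv Ω y) : x * y * x⁻¹ * y⁻¹ ≠ 1 := by
  intro hc
  have h3 : x * y = y * x := by
    rw [mul_inv_eq_one, mul_inv_eq_iff_eq_mul] at hc
    exact hc
  apply hb
  rw [mem_mv, ← mul_smul, ← h3, mul_smul, Ne, smul_left_cancel_iff]
  exact mem_mv.1 ha

/-- **No elements of order 3 with two cycles if `n ≥ 22`.** -/
theorem three_two [FaithfulSMul G Ω] (h2 : IsMultiplyPretransitive G Ω 2)
    (hA : ¬ alternatingGroup Ω ≤ (toPermHom G Ω).range) {x : G} (hx : orderOf x = 3) (hs : #(mv Ω x) = 6)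
    (hn : 22 ≤ Fintype.card Ω) : False := by
  have htr : IsPretransitive G Ω := isPretransitive_of_is_two_pretransitive
  set S := mv Ω x with hS
  have hx3 : x * x * x = 1 := by
    have h := pow_orderOf_eq_one x
    rw [hx] at h
    rw [← h, pow_three']
  -- the pairs `(a, x a)`
  set C : Finset (Ω × Ω) := S.image fun a => (a, x • a) with hC
  have hCcard : #C = 6 := by
    rw [hC, card_image_of_injective, hs]
    intro a b hab
    exact congrArg Prod.fst hab
  have hCne : ∀ z ∈ C, z.1 ≠ z.2 := by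
    intro z hz
    obtain ⟨a, ha, rfl⟩ := mem_image.1 hz
    exact (mem_mv.1 ha).symm
  have h3 := sum_ii (G := G) S
  have h4 := sum_ii_two h2 S (G := G)
  have h5 := sum_pairs h2 C S.offDiag hCne (fun z hz => (mem_offDiag.1 hz).2.2)
  rw [hs] at h3 h4
  rw [hCcard, offDiag_card, hs] at h5
  have key : ∃ h : G, #(ii S h) * (#(ii S h) - 1) < #(ii S h) +
      #{z ∈ C | (h • z.1, h • z.2) ∈ S.offDiag} := by
    by_contra hcon
    push Not at hcon
    have h6 : (∑ h : G, #(ii S h)) + ∑ h : G, #{z ∈ C | (h • z.1, h • z.2) ∈ S.offDiag} ≤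
        ∑ h : G, #(ii S h) * (#(ii S h) - 1) := by
      rw [← Finset.sum_add_distrib]
      exact Finset.sum_le_sum fun h _ => hcon h
    have hG : 0 < Fintype.card G := Fintype.card_pos
    have h7 := Nat.mul_le_mul_right (Fintype.card Ω * (Fintype.card Ω - 1)) h6
    rw [add_mul, h4, h5] at h7
    have h8 : (∑ h : G, #(ii S h)) * (Fintype.card Ω * (Fintype.card Ω - 1)) =
        Fintype.card G * (36 * (Fintype.card Ω - 1)) := by
      rw [← mul_assoc, h3]
      ring
    rw [h8, ← mul_add] at h7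
    have h9 := Nat.le_of_mul_le_mul_left h7 hG
    omega
  obtain ⟨h, hh⟩ := key
  -- the number of the pairs is at most the number of the points `a` with `a, x a` in `J`
  set J := ii S h with hJ
  have hJmv : J = mv Ω x ∩ mv Ω (h⁻¹ * x * h) := by rw [hJ, hS, ii_mv]
  set A := J.filter fun a => x • a ∈ J with hAdef
  have hcard : #{z ∈ C | (h • z.1, h • z.2) ∈ S.offDiag} ≤ #A := by
    apply Finset.card_le_card_of_injOn (fun z => z.1)
    · intro z hz
      have hz' := mem_filter.1 (mem_coe.1 hz)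
      obtain ⟨a, ha, rfl⟩ := mem_image.1 hz'.1
      have h6 := mem_offDiag.1 hz'.2
      simp only at h6
      rw [mem_coe, hAdef, mem_filter, hJ, ii, mem_filter, mem_filter]
      exact ⟨⟨ha, h6.1⟩, smul_mem_mv.2 ha, h6.2.1⟩
    · intro z hz w hw hzw
      obtain ⟨a, ha, rfl⟩ := mem_image.1 (mem_filter.1 (mem_coe.1 hz)).1
      obtain ⟨b, hb, rfl⟩ := mem_image.1 (mem_filter.1 (mem_coe.1 hw)).1
      have : a = b := hzw
      rw [this]
  have hAJ : #A ≤ #J := card_le_card (filter_subset _ _)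
  have hJpos : 0 < #J := by
    by_contra hc
    have : #J = 0 := by omega
    rw [this] at hh hAJ
    omega
  have hJ2 : #J ≤ 2 := by
    by_contra hc
    have h6 : #J * 2 ≤ #J * (#J - 1) := Nat.mul_le_mul_left _ (by omega)
    omega
  -- `J` is not invariant under `x`
  have hdist : ∀ a ∈ S, x • x • a ≠ a ∧ x • x • a ≠ x • a := by
    intro a ha
    have h6 : x • a ≠ a := mem_mv.1 ha
    constructor
    · intro hc
      apply h6
      calc x • a = x • x • x • a := by rw [hc]
        _ = (x * x * x) • a := by rw [mul_smul, mul_smul]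
        _ = a := by rw [hx3, one_smul]
    · intro hc
      exact h6 (smul_left_cancel x hc)
  set y := h⁻¹ * x * h with hy
  have hsmall : ∃ z : G, z ≠ 1 ∧ #(mv Ω z) ≤ 5 := by
    obtain ⟨a, ha⟩ := card_pos.1 hJpos
    have haJ := ha
    rw [hJmv, mem_inter] at haJ
    -- there is a point of `J` whose image is not in `J`
    obtain ⟨b, hb, hbJ⟩ : ∃ b ∈ J, x • b ∉ J := by
      by_contra hcon
      push Not at hcon
      have h6 : ({a, x • a, x • x • a} : Finset Ω) ⊆ J := by
        intro w hw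
        simp only [mem_insert, mem_singleton] at hw
        rcases hw with rfl | rfl | rfl
        · exact ha
        · exact hcon _ ha
        · exact hcon _ (hcon _ ha)
      have h7 := card_le_card h6
      have h8 := hdist a haJ.1
      rw [card_insert_of_notMem, card_insert_of_notMem, card_singleton] at h7
      · omega
      · rw [mem_singleton]; exact fun hc => h8.2 hc.symm
      · rw [mem_insert, mem_singleton]
        rintro (hc | hc)
        · exact (mem_mv.1 haJ.1) hc.symm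
        · exact h8.1 hc.symm
    have hbJ' := hb
    rw [hJmv, mem_inter] at hb hbJ
    refine ⟨x * y * x⁻¹ * y⁻¹, comm_ne hb.2 fun hc => hbJ ⟨smul_mem_mv.2 hb.1, hc⟩, ?_⟩
    rcases Nat.lt_or_ge (#J) 2 with h6 | h6
    · have h7 := card_mv_comm_le (Ω := Ω) x y
      rw [← hJmv] at h7
      omega
    · -- `J = {a, x a}`
      have h7 : #J = 2 := by omega
      have h8 : 0 < #A := by
        rw [h7] at hh
        omega
      obtain ⟨c, hc⟩ := card_pos.1 h8
      rw [hAdef, mem_filter] at hc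
      refine (card_le_card (mv_comm_subset x y)).trans ?_
      rw [← hJmv]
      have h9 : J ∪ J.image (x • ·) ∪ J.image (y • ·) = (insert (x • x • c) J) ∪ J.image (y • ·) := by
        have hcS : c ∈ S := by
          have := hc.1
          rw [hJmv, mem_inter] at this
          exact this.1
        have hJc : J = {c, x • c} := by
          symm
          apply Finset.eq_of_subset_of_card_le
          · intro w hw
            simp only [mem_insert, mem_singleton] at hw
            rcases hw with rfl | rfl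
            · exact hc.1
            · exact hc.2
          · rw [h7, card_pair]
            exact (mem_mv.1 hcS).symm
        rw [hJc]
        ext w
        simp only [mem_union, mem_insert, mem_singleton, mem_image, exists_eq_or_imp, exists_eq_left]
        tauto
      rw [h9]
      refine (card_union_le _ _).trans ?_
      have h10 := card_insert_le (x • x • c) J
      have h11 : #(J.image (y • ·)) ≤ #J := card_image_le
      omega
  obtain ⟨z, hz, hz5⟩ := hsmall
  have h6 := min_deg h2 hA hz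
  have h7 : (#(mv Ω z) - 1) ^ 2 ≤ 4 ^ 2 := Nat.pow_le_pow_left (by omega) 2
  omega

/-- **The minimal degree, second bound** (Bochert). -/
theorem bochert [FaithfulSMul G Ω] (h2 : IsMultiplyPretransitive G Ω 2) {x : G} (hx : x ≠ 1)
    (hmin : ∀ z : G, z ≠ 1 → #(mv Ω x) ≤ #(mv Ω z)) :
    (#(mv Ω x) - 3) * (Fintype.card Ω - #(mv Ω x)) ≤ 3 * (#(mv Ω x) - 1) ^ 2 := by
  set S := mv Ω x with hS
  have hpos : 0 < #S := (mv_nonempty hx).card_pos
  set P : Finset (Ω × Ω) := S.image fun a => (a, x • a) with hP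
  have hPcard : #P = #S := by
    rw [hP, card_image_of_injective]
    intro a b hab
    exact congrArg Prod.fst hab
  have hPne : ∀ z ∈ P, z.1 ≠ z.2 := by
    intro z hz
    obtain ⟨a, ha, rfl⟩ := mem_image.1 hz
    exact (mem_mv.1 ha).symm
  set Q : Finset (Ω × Ω) := Sᶜ ×ˢ S with hQ
  have hQcard : #Q = (Fintype.card Ω - #S) * #S := by
    rw [hQ, card_product, card_compl]
  have hQne : ∀ z ∈ Q, z.1 ≠ z.2 := by
    intro z hz hc
    rw [hQ, mem_product, mem_compl] at hz
    rw [hc] at hz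
    exact hz.1 hz.2
  have h5 := sum_pairs h2 P Q hPne hQne (G := G)
  have h4 := sum_ii_two h2 S (G := G)
  have key : ∀ h : G, (#S - 3) * #{z ∈ P | (h • z.1, h • z.2) ∈ Q} ≤ 3 * (#(ii S h) * (#(ii S h) - 1)) := by
    intro h
    set y := h⁻¹ * x * h with hy
    have hJmv : ii S h = mv Ω x ∩ mv Ω y := by rw [hS, ii_mv]
    rcases Nat.eq_zero_or_pos (#{z ∈ P | (h • z.1, h • z.2) ∈ Q}) with h0 | h0
    · rw [h0, mul_zero]
      exact Nat.zero_le _
    have hle : #{z ∈ P | (h • z.1, h • z.2) ∈ Q} ≤ #(ii S h) := by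
      apply Finset.card_le_card_of_injOn (fun z => z.2)
      · intro z hz
        have hz' := mem_filter.1 (mem_coe.1 hz)
        obtain ⟨a, ha, rfl⟩ := mem_image.1 hz'.1
        have h6 := mem_product.1 hz'.2
        rw [mem_coe, ii, mem_filter]
        exact ⟨smul_mem_mv.2 ha, h6.2⟩
      · intro z hz w hw hzw
        obtain ⟨a, ha, rfl⟩ := mem_image.1 (mem_filter.1 (mem_coe.1 hz)).1
        obtain ⟨b, hb, rfl⟩ := mem_image.1 (mem_filter.1 (mem_coe.1 hw)).1
        have : x • a = x • b := hzw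
        rw [smul_left_cancel x this]
    obtain ⟨z, hz⟩ := card_pos.1 h0
    have hz' := mem_filter.1 hz
    obtain ⟨a, ha, rfl⟩ := mem_image.1 hz'.1
    have h6 := mem_product.1 hz'.2
    simp only [mem_compl] at h6
    -- `y` fixes `a` and moves `x a`
    have h7 : a ∉ mv Ω y := by rw [mem_mv_conj]; exact h6.1
    have h8 : x • a ∈ mv Ω y := by rw [mem_mv_conj]; exact h6.2
    have h9 : x * y * x⁻¹ * y⁻¹ ≠ 1 := by
      intro hc
      have h3 : x * y = y * x := by
        rw [mul_inv_eq_one, mul_inv_eq_iff_eq_mul] at hc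
        exact hc
      apply mem_mv.1 h8
      rw [← mul_smul, ← h3, mul_smul, not_mem_mv.1 h7]
    have h10 := (hmin _ h9).trans (card_mv_comm_le x y)
    rw [← hJmv] at h10
    have h11 : #S - 3 ≤ 3 * (#(ii S h) - 1) := by omega
    calc _ ≤ (3 * (#(ii S h) - 1)) * #(ii S h) := Nat.mul_le_mul h11 hle
      _ = _ := by ring
  have h6 : (#S - 3) * (∑ h : G, #{z ∈ P | (h • z.1, h • z.2) ∈ Q}) ≤
      3 * ∑ h : G, #(ii S h) * (#(ii S h) - 1) := by
    rw [Finset.mul_sum, Finset.mul_sum]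
    exact Finset.sum_le_sum fun h _ => key h
  have h7 := Nat.mul_le_mul_right (Fintype.card Ω * (Fintype.card Ω - 1)) h6
  rw [mul_assoc, mul_assoc, h4, h5, hPcard, hQcard] at h7
  have hG : 0 < Fintype.card G := Fintype.card_pos
  apply Nat.le_of_mul_le_mul_left _ (Nat.mul_pos hG (Nat.mul_pos hpos hpos))
  calc _ = (#S - 3) * (Fintype.card G * (#S * ((Fintype.card Ω - #S) * #S))) := by ring
    _ ≤ _ := h7
    _ = _ := by ring

end

end Cfsg.Agent.H579.Pr
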