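import Cfsg.Agent.H579.Pr.Core
import Cfsg.Agent.H384.TwoTransMain
import Cfsg.Agent.S0000

/-!
# Elements of prime order with few cycles in 2-transitive groups: Lemma 2T of S3618 (helper579)
-/

set_option autoImplicit false
open Cfsg

namespace Cfsg.Agent.H579.Pr

open MulAction Finset

universe u v

theorem hub : Hub.{u, v} := fun A => Cfsg.Agent.H384.TwoTransMain.main (fun _ _ _ _ => Cfsg.Agent.S0000.result) A

/-- **Lemma 2T** -/
theorem two_t {G : Type u} {Ω : Type v} [Group G] [MulAction G Ω] [Fintype Ω] [DecidableEq Ω] [Finite G]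
    [FaithfulSMul G Ω] (h2 : IsMultiplyPretransitive G Ω 2) {x : G} {p q : ℕ} (h : Few Ω x p q) :
    2 * (((mv Ω x)ᶜ).card + 1) ≤ 5 * q ∨ alternatingGroup Ω ≤ (toPermHom G Ω).range :=
  two_of_hub hub h2 h

/-- the form used in part A of S3618 (helper411) -/
theorem twoT {p : ℕ} (hp : p.Prime) : Cfsg.Agent.H411.PrA.TwoT.{u} p := twoT_of_hub hub hp

/-- the form used in part B of S3618 (helper426) -/
theorem twoTrans {p : ℕ} (hp : p.Prime) : Cfsg.Agent.H426.FC.TwoTrans.{u} p := twoTrans_of_hub hub hp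

end Cfsg.Agent.H579.Pr
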